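import Groth.Agent.Lib.ThickSp15.Core
import Groth.Agent.Lib.OverBC14.Apps
import Groth.Agent.Lib.AlgSpace.SchemeLocus

/-!
# A thickening of a scheme is a scheme
-/

universe u

set_option backward.isDefEq.respectTransparency.types false

open CategoryTheory CategoryTheory.Limits AlgebraicGeometry Opposite

namespace Groth.Agent.ThickSp15

open AlgSp Groth.Agent.AlgSpace Groth.Agent.AlgSpDecent

variable {S : Scheme.{u}}

/-- A thickening of an affine scheme whose structure map factors through an affine scheme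
monomorphic over the base is a scheme. -/
theorem exists_iso_of_thick_affine_piece {X₀ : Sp S} (hX₀ : IsAlgSpace X₀) {S₀ : Scheme.{u}}
    [IsAffine S₀] (g : S₀ ⟶ S) {T₀ : Over S} [IsAffine T₀.left] {i₀ : (yon S).obj T₀ ⟶ X₀}
    (hi : IsThickMor i₀) (p : X₀ ⟶ (yon S).obj (Over.mk g)) :
    ∃ T' : Over S, IsAffine T'.left ∧ Nonempty ((yon S).obj T' ≅ X₀) := by
  obtain ⟨F, e, -⟩ := OverBC14.exists_L_iso g p
  have hF : IsAlgSpace F := (OverBC14.isAlgSpace_L_iff g F).1
    ((ObjectProperty.prop_iff_of_iso (IsAlgSpace (S := S)) e).2 hX₀)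
  obtain ⟨T, e', a, ha⟩ := OverBC14.exists_pt g (i₀ ≫ e.inv)
  have h₁ : RepWith thick (i₀ ≫ e.inv) := (repWith_respectsIso_right e.inv).2 hi
  rw [← ha, repWith_respectsIso_left, OverBC14.mapPt, repWith_respectsIso_left] at h₁
  have h₂ : IsThickMor a := OverBC14.repWith_of_map h₁
  have : IsIso ((Over.forget S).map e'.inv) := inferInstance
  have : IsAffine T.left := @IsAffine.of_isIso _ _ _ this ‹IsAffine T₀.left›
  obtain ⟨T', hT', ⟨f⟩⟩ := exists_affine_of_thick hF h₂
  exact ⟨(Over.map g).obj T', hT', ⟨(OverBC14.θ g T').symm ≪≫ (OverBC14.L g).mapIso f ≪≫ e⟩⟩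

/-- A thickening of a scheme is a scheme. -/
theorem exists_scheme_of_thick {X' : Sp S} (hX' : IsAlgSpace X') {T : Over S}
    {i : (yon S).obj T ⟶ X'} (hi : IsThickMor i) :
    ∃ T' : Over S, Nonempty ((yon S).obj T' ≅ X') := by
  have hsurj := AlgSpDescent.surjective_of_thick hi
  have hemb := (isEmbedding_map_of_immersion hX' (repWith_mono
    (fun A B g (hg : IsClosedImmersion g) => (inferInstance : IsImmersion g))
    (AlgSpDescent.closedImmersion_of_thick hi))).1
  have hhom : IsHomeomorph (Points.map i) := isHomeomorph_iff_isEmbedding_surjective.2 ⟨hemb, hsurj⟩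
  have key : ∀ x : Points X', ∃ (U : Over S) (w : (yon S).obj U ⟶ X'),
      RepWith @IsOpenImmersion w ∧ x ∈ Set.range (Points.map w) := by
    intro x
    obtain ⟨y, rfl⟩ := hsurj x
    obtain ⟨t, rfl⟩ := (Points.schemeEquiv T).surjective y
    obtain ⟨_, ⟨(S₀ : S.Opens), hS₀, rfl⟩, hsS, -⟩ := S.isBasis_affineOpens.exists_subset_of_mem_open
      (Set.mem_univ (T.hom t)) isOpen_univ
    obtain ⟨_, ⟨(V : T.left.Opens), hV, rfl⟩, htV, hVS⟩ := T.left.isBasis_affineOpens.exists_subset_of_mem_open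
      (show t ∈ T.hom ⁻¹ᵁ S₀ from hsS) (T.hom ⁻¹ᵁ S₀).isOpen
    let T₀ : Over S := Over.mk (V.ι ≫ T.hom)
    let ι₀ : T₀ ⟶ T := Over.homMk V.ι rfl
    have : IsAffine T₀.left := hV
    have : IsAffine (S₀ : Scheme) := hS₀
    have hι₀ : RepWith @IsOpenImmersion ((yon S).map ι₀) :=
      (repWith_yon_map_iff _ _).2 (inferInstanceAs (IsOpenImmersion V.ι))
    have : Mono ((yon S).map ι₀) := mono_of_repWith _ (repWith_mono
      (fun _ _ g (_ : IsOpenImmersion g) => (inferInstance : Mono g)) hι₀)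
    let W := Points.map i '' Set.range (Points.map ((yon S).map ι₀))
    have hW : IsOpen W := hhom.isOpenMap _ (isOpen_range_map_of_openImmersion hι₀)
    obtain ⟨i₀, hi₀⟩ := exists_factor_openSub (W := W) ((yon S).map ι₀ ≫ i) (by
      rintro _ ⟨z, rfl⟩
      rw [Points.map_comp]
      exact ⟨_, ⟨z, rfl⟩, rfl⟩)
    have sq : IsPullback i₀ ((yon S).map ι₀) (openSubι W) i :=
      isPullback_of_mono_lifts hi₀ fun T' y z hz =>
        exists_factor_of_range hι₀ y (by
          rintro _ ⟨q, rfl⟩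
          have hq : Points.map i (Points.map y q) ∈ W := by
            rw [← Points.map_comp, ← hz, Points.map_comp]
            exact (range_openSubι W).le ⟨_, rfl⟩
          obtain ⟨r, hr, hr'⟩ := hq
          exact hemb.injective hr' ▸ hr)
    have hi₀t : IsThickMor i₀ := repWith_of_isPullback sq.flip hi
    have hX₀ : IsAlgSpace (openSub W) :=
      isAlgSpace_of_representable (repWith_openSubι hW).1 hX'
    let one : Over S := Over.mk (𝟙 S)
    let tg : Over.mk S₀.ι ⟶ one := Over.homMk S₀.ι (Category.comp_id _)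
    have hsub : V ≤ T.hom ⁻¹ᵁ S₀ := hVS
    let k : T₀ ⟶ Over.mk S₀.ι := Over.homMk (IsOpenImmersion.lift S₀.ι (V.ι ≫ T.hom) (by
      rintro _ ⟨z, rfl⟩
      rw [S₀.range_ι]
      exact hsub (show V.ι z ∈ (V : Set T.left) from V.range_ι ▸ ⟨z, rfl⟩)))
      (IsOpenImmersion.lift_fac _ _ _)
    obtain ⟨p, -⟩ := exists_factor_of_range (j := (yon S).map tg)
      ((repWith_yon_map_iff _ _).2 (inferInstanceAs (IsOpenImmersion S₀.ι)))
      (terminal_over.from (openSub W)) (by
        rintro _ ⟨z, rfl⟩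
        obtain ⟨z₀, rfl⟩ := AlgSpDescent.surjective_of_thick hi₀t z
        refine ⟨Points.map ((yon S).map k) z₀, ?_⟩
        rw [← Points.map_comp, ← Points.map_comp]
        congr 1
        exact terminal_over.hom_ext _ _)
    obtain ⟨U, -, ⟨e⟩⟩ := exists_iso_of_thick_affine_piece hX₀ S₀.ι hi₀t p
    refine ⟨U, e.hom ≫ openSubι W, (repWith_respectsIso_left e.hom).2 (repWith_openSubι hW), ?_⟩
    have ht : Points.schemeEquiv T t ∈ Set.range (Points.map ((yon S).map ι₀)) := by
      obtain ⟨v, hv⟩ : t ∈ Set.range V.ι := by rw [V.range_ι]; exact htV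
      refine ⟨Points.schemeEquiv T₀ v, (Points.schemeEquiv T).symm.injective ?_⟩
      rw [Equiv.symm_apply_apply, ← hv]
      change Points.toScheme T (Points.map ((yon S).map ι₀) (Points.ofScheme T₀ v)) = _
      rw [Points.ofScheme]
      rw [Points.map_ofPt, Category.id_comp, Points.toScheme_ofPt]
      rfl
    obtain ⟨z, hz⟩ := (range_openSubι W).ge ⟨_, ht, rfl⟩
    refine ⟨Points.map e.inv z, ?_⟩
    rw [← Points.map_comp, Iso.inv_hom_id_assoc, hz]
  choose U w hw hx using key
  let κ : Type u := {O : Set ↥T.left // ∃ x, (Points.schemeEquiv T) ⁻¹' (Points.map i ⁻¹' Set.range (Points.map (w x))) = O}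
  choose c hc using fun k : κ => k.2
  refine exists_iso_yon_of_points_cover (w := fun k => w (c k)) (fun k => hw (c k)) fun x => ?_
  obtain ⟨y, rfl⟩ := hsurj x
  obtain ⟨t, rfl⟩ := (Points.schemeEquiv T).surjective y
  let k : κ := ⟨_, Points.map i (Points.schemeEquiv T t), rfl⟩
  exact ⟨k, (hc k).ge (hx (Points.map i (Points.schemeEquiv T t)))⟩

end Groth.Agent.ThickSp15
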