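import Groth.Agent.Lib.ThickSp15.Ring

/-!
# Groupoids of rings: lifting invariant functions along a square-zero invariant ideal

The degree one case of the exactness of the Amitsur complex, for the module given by a square-zero
invariant ideal.
-/

universe u

open TensorProduct

namespace Groth.Agent.ThickSp15

variable {A B C D : Type u} [CommRing A] [CommRing B] [CommRing C] [CommRing D]

/-- Elements generated by two maps: induction principle. -/
theorem mem_span_of_mem_closure {R₁ R₂ E : Type u} [CommRing R₁] [CommRing R₂] [CommRing E]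
    (f : R₁ →+* E) (g : R₂ →+* E) (P : E → Prop) (h0 : P 0) (hadd : ∀ x y, P x → P y → P (x + y))
    (hgen : ∀ a b, P (f a * g b)) (z : E)
    (hz : z ∈ Subring.closure (Set.range f ∪ Set.range g)) : P z := by
  suffices z ∈ AddSubmonoid.closure {w | ∃ a b, w = f a * g b} by
    clear hz
    induction this using AddSubmonoid.closure_induction with
    | mem w hw => obtain ⟨a, b, rfl⟩ := hw; exact hgen a b
    | zero => exact h0
    | add x y _ _ hx hy => exact hadd x y hx hy
  have hmul : ∀ x ∈ AddSubmonoid.closure {w | ∃ a b, w = f a * g b},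
      ∀ y ∈ AddSubmonoid.closure {w | ∃ a b, w = f a * g b},
        x * y ∈ AddSubmonoid.closure {w | ∃ a b, w = f a * g b} := by
    intro x hx y hy
    induction hx using AddSubmonoid.closure_induction with
    | mem w hw =>
      induction hy using AddSubmonoid.closure_induction with
      | mem v hv =>
        obtain ⟨a, b, rfl⟩ := hw
        obtain ⟨a', b', rfl⟩ := hv
        exact AddSubmonoid.subset_closure ⟨a * a', b * b', by rw [map_mul, map_mul]; ring⟩
      | zero => rw [mul_zero]; exact zero_mem _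
      | add p q _ _ hp hq => rw [mul_add]; exact add_mem hp hq
    | zero => rw [zero_mul]; exact zero_mem _
    | add p q _ _ hp hq => rw [add_mul]; exact add_mem hp hq
  induction hz using Subring.closure_induction with
  | mem w hw =>
    rcases hw with ⟨a, rfl⟩ | ⟨b, rfl⟩
    · exact AddSubmonoid.subset_closure ⟨a, 1, by rw [map_one, mul_one]⟩
    · exact AddSubmonoid.subset_closure ⟨1, b, by rw [map_one, one_mul]⟩
  | zero => exact zero_mem _
  | one => exact AddSubmonoid.subset_closure ⟨1, 1, by simp⟩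
  | add x y _ _ hx hy => exact add_mem hx hy
  | neg x _ hx =>
    rw [← neg_one_mul]
    exact hmul _ (AddSubmonoid.subset_closure ⟨-1, 1, by simp⟩) _ hx
  | mul x y _ _ hx hy => exact hmul x hx y hy

set_option maxHeartbeats 1600000 in
/-- Invariant functions lift along a square-zero invariant ideal over an affine quotient. -/
theorem exists_invariant_lift {s t : B →+* C} {inl inr m : C →+* D}
    (hD : IsComposable s t inl inr) (hinr : inr.Flat) (hmt : m.comp t = inl.comp t)
    (hms : m.comp s = inr.comp s) (J : Ideal B) (hJ : ∀ x ∈ J, ∀ y ∈ J, x * y = 0)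
    (hts : J.map t ≤ J.map s) (a : A →+* B ⧸ J) (ha : a.FaithfullyFlat)
    (tb sb : B ⧸ J →+* C ⧸ J.map s)
    (htb : ∀ x, tb (Ideal.Quotient.mk J x) = Ideal.Quotient.mk _ (t x))
    (hsb : ∀ x, sb (Ideal.Quotient.mk J x) = Ideal.Quotient.mk _ (s x))
    (hab : tb.comp a = sb.comp a)
    (hgen : ∀ z, z ∈ Subring.closure (Set.range tb ∪ Set.range sb))
    (hC : ∀ (E : Type u) [CommRing E] (f g : B ⧸ J →+* E), f.comp a = g.comp a →
      ∃ h : C ⧸ J.map s →+* E, h.comp tb = f ∧ h.comp sb = g)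
    (b : B) (hb : Ideal.Quotient.mk J b ∈ a.range) :
    ∃ j ∈ J, s (b + j) = t (b + j) := by
  let J₁ := J.map s
  have hJ₁ : ∀ x ∈ J₁, ∀ y ∈ J₁, x * y = 0 := by
    have h : J * J = ⊥ := le_bot_iff.1 (Ideal.mul_le.2 fun x hx y hy => (Submodule.mem_bot B).2 (hJ x hx y hy))
    intro x hx y hy
    have := Ideal.mul_mem_mul hx hy
    rw [← Ideal.map_mul, h, Ideal.map_bot] at this
    exact (Submodule.mem_bot C).1 this
  letI : Algebra A (B ⧸ J) := a.toAlgebra
  letI : Algebra A (C ⧸ J₁) := (tb.comp a).toAlgebra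
  have hff : Module.FaithfullyFlat A (B ⧸ J) := ha
  have hJt : Module.IsTorsionBySet B J (J : Set B) := fun y x =>
    Subtype.ext (hJ x.1 x.2 y.1 y.2)
  have hJ₁t : Module.IsTorsionBySet C J₁ (J₁ : Set C) := fun y x =>
    Subtype.ext (hJ₁ x.1 x.2 y.1 y.2)
  letI : Module (B ⧸ J) J := hJt.module
  letI : Module (C ⧸ J₁) J₁ := hJ₁t.module
  letI : Module A J := Module.compHom J a
  letI : Module A J₁ := Module.compHom J₁ (tb.comp a)
  have : IsScalarTower A (C ⧸ J₁) J₁ := ⟨fun p q z => by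
    rw [Algebra.smul_def, mul_smul]; rfl⟩
  have hd : ∀ y : J, s y.1 - t y.1 ∈ J₁ := fun y =>
    sub_mem (Ideal.mem_map_of_mem s y.2) (hts (Ideal.mem_map_of_mem t y.2))
  let d₀ : J →ₗ[A] J₁ :=
    { toFun := fun y => ⟨s y.1 - t y.1, hd y⟩
      map_add' := fun y y' => Subtype.ext (by simp only [Submodule.coe_add, map_add]; ring)
      map_smul' := fun p y => by
        obtain ⟨x, hx⟩ := Ideal.Quotient.mk_surjective (a p)
        have h₁ : p • y = x • y := by
          change a p • y = _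
          rw [← hx]; rfl
        have h₂ : ∀ z : J₁, p • z = t x • z := fun z => by
          change tb (a p) • z = _
          rw [← hx, htb]; rfl
        have h₃ : s x - t x ∈ J₁ := by
          rw [← Ideal.Quotient.eq, ← hsb, ← htb, hx]
          exact (RingHom.congr_fun hab p).symm
        apply Subtype.ext
        rw [RingHom.id_apply, h₂, h₁]
        change s (x * y.1) - t (x * y.1) = t x * (s y.1 - t y.1)
        rw [map_mul, map_mul]
        linear_combination hJ₁ _ h₃ _ (Ideal.mem_map_of_mem s y.2) }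
  obtain ⟨h, hht, hhs⟩ := hC ((B ⧸ J) ⊗[A] (C ⧸ J₁))
    (Algebra.TensorProduct.includeLeft (S := A)).toRingHom
    ((Algebra.TensorProduct.includeRight : (C ⧸ J₁) →ₐ[A] (B ⧸ J) ⊗[A] (C ⧸ J₁)).toRingHom.comp tb) (by
      ext p
      change algebraMap A (B ⧸ J) p ⊗ₜ[A] (1 : C ⧸ J₁) = (1 : B ⧸ J) ⊗ₜ[A] algebraMap A (C ⧸ J₁) p
      rw [Algebra.algebraMap_eq_smul_one, Algebra.algebraMap_eq_smul_one, smul_tmul])
  obtain ⟨δ, hδl, hδr⟩ := hD.2 _ (h.comp (Ideal.Quotient.mk J₁))
    ((Algebra.TensorProduct.includeRight : (C ⧸ J₁) →ₐ[A] (B ⧸ J) ⊗[A] (C ⧸ J₁)).toRingHom.comp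
      (Ideal.Quotient.mk J₁)) (by
      ext x
      simp only [RingHom.comp_apply]
      rw [← hsb, ← RingHom.comp_apply, hhs, ← htb]
      rfl)
  letI : Algebra C D := inr.toAlgebra
  have : Module.Flat C D := hinr
  let Θ : J₁ → ((B ⧸ J) ⊗[A] (C ⧸ J₁) →ₗ[A] (B ⧸ J) ⊗[A] J₁) := fun z =>
    ((LinearMap.toSpanSingleton (C ⧸ J₁) J₁ z).restrictScalars A).lTensor (B ⧸ J)
  have hΘtmul : ∀ z β γ, Θ z (β ⊗ₜ γ) = β ⊗ₜ (γ • z) := fun z β γ => rfl
  have hΘadd : ∀ z z' w, Θ (z + z') w = Θ z w + Θ z' w := fun z z' w => by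
    induction w using TensorProduct.induction_on with
    | zero => simp
    | tmul β γ => rw [hΘtmul, hΘtmul, hΘtmul, smul_add, tmul_add]
    | add p q hp hq => rw [map_add, map_add, map_add, hp, hq]; abel
  have hΘsmul : ∀ (c : C) z w,
      Θ z ((1 : B ⧸ J) ⊗ₜ[A] Ideal.Quotient.mk J₁ c * w) = Θ (c • z) w := fun c z w => by
    induction w using TensorProduct.induction_on with
    | zero => simp
    | tmul β γ =>
      rw [Algebra.TensorProduct.tmul_mul_tmul, one_mul, hΘtmul, hΘtmul, mul_comm, mul_smul]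
      rfl
    | add p q hp hq => rw [mul_add, map_add, map_add, hp, hq]
  let ψ : D ⊗[C] J₁ →+ (B ⧸ J) ⊗[A] J₁ := TensorProduct.liftAddHom
    (AddMonoidHom.mk' (fun d => AddMonoidHom.mk' (fun z => Θ z (δ d)) fun z z' => hΘadd z z' (δ d))
      (fun d d' => AddMonoidHom.ext fun z => by
        simp only [AddMonoidHom.mk'_apply, AddMonoidHom.add_apply, map_add]))
    (fun c d z => by
      simp only [AddMonoidHom.mk'_apply]
      rw [Algebra.smul_def, map_mul]
      change Θ z (δ (inr c) * δ d) = _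
      rw [← RingHom.comp_apply, hδr]
      exact hΘsmul c z (δ d))
  have hψ : ∀ d z, ψ (d ⊗ₜ z) = Θ z (δ d) := fun d z => rfl
  let ι : D ⊗[C] J₁ →ₗ[C] D := (TensorProduct.rid C D).toLinearMap ∘ₗ J₁.subtype.lTensor D
  have hι : ∀ d (z : J₁), ι (d ⊗ₜ z) = d * inr z.1 := fun d z => by
    change z.1 • d = _
    rw [Algebra.smul_def, mul_comm]
    rfl
  have hιinj : Function.Injective ι := (TensorProduct.rid C D).injective.comp
    (Module.Flat.lTensor_preserves_injective_linearMap (M := D) _ Subtype.val_injective)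
  have hIL : inl.comp s = inr.comp t := hD.1
  let P : C → Prop := fun c => ∃ (x : (B ⧸ J) ⊗[A] J) (X : D ⊗[C] J₁),
    ψ X = d₀.lTensor (B ⧸ J) x ∧ ι X = m c - inl c
  have hP : ∀ c ∈ J₁, P c := by
    have hgenP : ∀ β β' y, y ∈ J → P (t β * s β' * s y) := by
      intro β β' y hy
      let y' : J := ⟨β' * y, J.mul_mem_left β' hy⟩
      refine ⟨Ideal.Quotient.mk J β ⊗ₜ y', inl (t β) ⊗ₜ d₀ y', ?_, ?_⟩
      · rw [hψ, ← RingHom.comp_apply inl, LinearMap.lTensor_tmul]
        change Θ (d₀ y') (δ (inl (t β))) = _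
        rw [← RingHom.comp_apply δ, hδl, RingHom.comp_apply, ← htb, ← RingHom.comp_apply, hht]
        change Θ (d₀ y') (Ideal.Quotient.mk J β ⊗ₜ 1) = _
        rw [hΘtmul, one_smul]
      · rw [hι]
        change inl (t β) * inr (s (β' * y) - t (β' * y)) = _
        have e₁ : m (t β) = inl (t β) := RingHom.congr_fun hmt β
        have e₂ : ∀ w, m (s w) = inr (s w) := RingHom.congr_fun hms
        have e₃ : ∀ w, inr (t w) = inl (s w) := fun w => (RingHom.congr_fun hIL w).symm
        simp only [map_sub, map_mul, e₁, e₂, e₃]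
        ring
    have hadd : ∀ c c', P c → P c' → P (c + c') := by
      rintro c c' ⟨x, X, hX₁, hX₂⟩ ⟨x', X', hX₁', hX₂'⟩
      exact ⟨x + x', X + X', by rw [map_add, map_add, hX₁, hX₁'],
        by rw [map_add, hX₂, hX₂', map_add, map_add]; ring⟩
    have hzero : P 0 := ⟨0, 0, by simp, by simp⟩
    intro c hc
    suffices ∀ p, P (p * c) by simpa using this 1
    refine Submodule.span_induction (p := fun z _ => ∀ p, P (p * z)) ?_ ?_ ?_ ?_ hc
    · rintro _ ⟨y, hy, rfl⟩ p
      refine mem_span_of_mem_closure tb sb (fun z => ∀ p, Ideal.Quotient.mk J₁ p = z → P (p * s y))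
        ?_ ?_ ?_ _ (hgen (Ideal.Quotient.mk J₁ p)) p rfl
      · intro p hp
        rw [hJ₁ p (Ideal.Quotient.eq_zero_iff_mem.1 hp) _ (Ideal.mem_map_of_mem s hy)]
        exact hzero
      · intro z z' hz hz' p hp
        obtain ⟨q, rfl⟩ := Ideal.Quotient.mk_surjective z
        have := hadd _ _ (hz q rfl) (hz' (p - q) (by rw [map_sub, hp]; ring))
        rwa [← add_mul, add_sub_cancel] at this
      · intro β β' p hp
        obtain ⟨β, rfl⟩ := Ideal.Quotient.mk_surjective β
        obtain ⟨β', rfl⟩ := Ideal.Quotient.mk_surjective β'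
        rw [htb, hsb, ← map_mul] at hp
        have e : p * s y = t β * s β' * s y := by
          linear_combination hJ₁ _ (Ideal.Quotient.eq.1 hp) _ (Ideal.mem_map_of_mem s hy)
        rw [e]
        exact hgenP β β' y hy
    · intro p
      rw [mul_zero]; exact hzero
    · intro z z' _ _ hz hz' p
      rw [mul_add]; exact hadd _ _ (hz p) (hz' p)
    · intro q z _ hz p
      rw [smul_eq_mul, ← mul_assoc]; exact hz _
  obtain ⟨p, hp⟩ := hb
  have hc : s b - t b ∈ J₁ := by
    rw [← Ideal.Quotient.eq, ← hsb, ← htb, ← hp]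
    exact (RingHom.congr_fun hab p).symm
  let c : J₁ := ⟨s b - t b, hc⟩
  obtain ⟨x, X, hX₁, hX₂⟩ := hP c.1 c.2
  have hXY : X = (1 : D) ⊗ₜ c := hιinj (by
    rw [hι, hX₂, one_mul]
    have e₁ : ∀ w, m (t w) = inl (t w) := RingHom.congr_fun hmt
    have e₂ : ∀ w, m (s w) = inr (s w) := RingHom.congr_fun hms
    have e₃ : ∀ w, inr (t w) = inl (s w) := fun w => (RingHom.congr_fun hIL w).symm
    simp only [c, map_sub, e₁, e₂, e₃]
    ring)
  have hfinal : d₀.lTensor (B ⧸ J) x = (1 : B ⧸ J) ⊗ₜ c := by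
    rw [← hX₁, hXY, hψ, map_one, Algebra.TensorProduct.one_def, hΘtmul, one_smul]
  let Q := J₁ ⧸ LinearMap.range d₀
  have hq : (LinearMap.range d₀).mkQ c = 0 := by
    refine Module.FaithfullyFlat.tensorProduct_mk_injective (A := A) (B := B ⧸ J) Q ?_
    rw [map_zero]
    change (1 : B ⧸ J) ⊗ₜ[A] (LinearMap.range d₀).mkQ c = 0
    rw [← LinearMap.lTensor_tmul, ← hfinal, ← LinearMap.comp_apply, ← LinearMap.lTensor_comp,
      LinearMap.range_mkQ_comp, LinearMap.lTensor_zero, LinearMap.zero_apply]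
  obtain ⟨y, hy⟩ := (Submodule.Quotient.mk_eq_zero _).1 hq
  refine ⟨-y.1, J.neg_mem y.2, ?_⟩
  have hy' : s y.1 - t y.1 = s b - t b := congrArg Subtype.val hy
  rw [map_add, map_add, map_neg, map_neg]
  linear_combination -hy'

end Groth.Agent.ThickSp15
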