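import Mathlib.AlgebraicGeometry.Morphisms.Etale
import Mathlib.AlgebraicGeometry.Pullbacks
import Mathlib.AlgebraicGeometry.PullbackCarrier
import Mathlib.AlgebraicGeometry.Morphisms.UniversallyOpen
import Mathlib.RingTheory.Smooth.NoetherianDescent

/-!
# Étale covers of affine schemes come from rings of finite type
-/

universe u

open CategoryTheory CategoryTheory.Limits AlgebraicGeometry TensorProduct

namespace Groth.Agent.ThickSp15

set_option backward.isDefEq.respectTransparency.types false in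
/-- An affine étale cover of an affine scheme descends to a ring of finite type. -/
theorem exists_model {T W : Scheme.{u}} [IsAffine T] [IsAffine W] (a : W ⟶ T) [Etale a]
    [Surjective a] :
    ∃ (A₁ : CommRingCat.{u}) (E : Scheme.{u}) (e : E ⟶ Spec A₁) (v : T ⟶ Spec A₁) (g : W ⟶ E),
      Algebra.FiniteType ℤ A₁ ∧ IsAffine E ∧ Etale e ∧ Surjective e ∧ IsPullback a g v e := by
  classical
  letI : Algebra Γ(T, ⊤) Γ(W, ⊤) := a.appTop.hom.toAlgebra
  have : Algebra.Etale Γ(T, ⊤) Γ(W, ⊤) :=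
    RingHom.etale_algebraMap.1 ((HasRingHomProperty.iff_of_isAffine (P := @Etale) (f := a)).1 ‹_›)
  obtain ⟨A₀, B₀, _, _, hA₀, hB₀, ⟨eq⟩⟩ :=
    Algebra.Etale.exists_subalgebra_fg (R := ℤ) (A := Γ(T, ⊤)) (B := Γ(W, ⊤))
  let e₀ : Spec (CommRingCat.of B₀) ⟶ Spec (CommRingCat.of A₀) :=
    Spec.map (CommRingCat.ofHom (algebraMap A₀ B₀))
  have : Etale e₀ := by
    rw [HasRingHomProperty.Spec_iff (P := @Etale)]
    exact RingHom.etale_algebraMap.2 hB₀
  let val₀ : CommRingCat.of A₀ ⟶ Γ(T, ⊤) := CommRingCat.ofHom (algebraMap A₀ Γ(T, ⊤))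
  let v₀ : T ⟶ Spec (CommRingCat.of A₀) := T.isoSpec.hom ≫ Spec.map val₀
  let inR : CommRingCat.of B₀ ⟶ Γ(W, ⊤) :=
    CommRingCat.ofHom (eq.symm.toRingEquiv.toRingHom.comp
      (Algebra.TensorProduct.includeRight : B₀ →ₐ[A₀] Γ(T, ⊤) ⊗[A₀] B₀).toRingHom)
  let g₀ : W ⟶ Spec (CommRingCat.of B₀) := W.isoSpec.hom ≫ Spec.map inR
  have sq₀ : IsPullback a g₀ v₀ e₀ := by
    have h := isPullback_SpecMap_of_isPushout _ _ _ _
      (CommRingCat.isPushout_tensorProduct A₀ Γ(T, ⊤) B₀)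
    let ee : Γ(W, ⊤) ≅ CommRingCat.of (Γ(T, ⊤) ⊗[A₀] B₀) := eq.toRingEquiv.toCommRingCatIso
    refine IsPullback.of_iso h ((Scheme.Spec.mapIso ee.op) ≪≫ W.isoSpec.symm) T.isoSpec.symm
      (Iso.refl _) (Iso.refl _) ?_ ?_ ?_ ?_
    · simp only [Iso.trans_hom, Functor.mapIso_hom, Iso.op_hom, Scheme.Spec_map, Quiver.Hom.unop_op,
        Iso.symm_hom, Category.assoc]
      rw [← Scheme.isoSpec_inv_naturality, ← Spec.map_comp_assoc]
      congr 2
      ext x
      exact (eq.commutes x).symm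
    · simp only [Iso.trans_hom, Functor.mapIso_hom, Iso.op_hom, Scheme.Spec_map, Quiver.Hom.unop_op,
        Iso.symm_hom, Category.assoc, Iso.refl_hom, Category.comp_id]
      simp only [g₀, Iso.inv_hom_id_assoc]
      rw [← Spec.map_comp]
      congr 1
      ext x
      exact (eq.apply_symm_apply _).symm
    · simp only [Iso.refl_hom, Category.comp_id, Iso.symm_hom, v₀, Iso.inv_hom_id_assoc]
      rfl
    · simp [e₀]
  obtain ⟨J₀, hJ₀⟩ := (PrimeSpectrum.isClosed_iff_zeroLocus_ideal _).1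
    e₀.isOpenMap.isOpen_range.isClosed_compl
  have hrange : Set.range v₀ ⊆ Set.range e₀ := by
    rintro _ ⟨x, rfl⟩
    obtain ⟨w, rfl⟩ := a.surjective x
    exact ⟨g₀ w, by rw [← Scheme.Hom.comp_apply, ← sq₀.w, Scheme.Hom.comp_apply]⟩
  have htop : J₀.map (algebraMap A₀ Γ(T, ⊤)) = ⊤ := by
    by_contra hne
    obtain ⟨M, hM, hle⟩ := Ideal.exists_le_maximal _ hne
    let x : PrimeSpectrum Γ(T, ⊤) := ⟨M, hM.isPrime⟩
    have hx : v₀ (T.isoSpec.inv x) ∈ Set.range e₀ := hrange ⟨_, rfl⟩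
    have hx' : PrimeSpectrum.comap (algebraMap A₀ Γ(T, ⊤)) x ∈ (Set.range e₀)ᶜ := by
      exact hJ₀.ge ((PrimeSpectrum.mem_zeroLocus (PrimeSpectrum.comap (algebraMap A₀ Γ(T, ⊤)) x) _).2
        (Ideal.le_comap_of_map_le hle))
    apply hx'
    have : v₀ (T.isoSpec.inv x) = PrimeSpectrum.comap (algebraMap A₀ Γ(T, ⊤)) x := by
      simp only [v₀, ← Scheme.Hom.comp_apply, Iso.inv_hom_id_assoc]
      rfl
    rwa [← this]
  have h1 : (1 : Γ(T, ⊤)) ∈ J₀.map (algebraMap A₀ Γ(T, ⊤)) := htop ▸ Submodule.mem_top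
  obtain ⟨c, hcs, hc⟩ := (Submodule.mem_span_set).1 h1
  let A₁ : Subalgebra ℤ Γ(T, ⊤) := A₀ ⊔ Algebra.adjoin ℤ (↑(c.support.image c) : Set Γ(T, ⊤))
  have hfg : A₁.FG := hA₀.sup (Subalgebra.fg_adjoin_finset _)
  let incl : CommRingCat.of A₀ ⟶ CommRingCat.of A₁ :=
    CommRingCat.ofHom (Subalgebra.inclusion (le_sup_left : A₀ ≤ A₁)).toRingHom
  let q : Spec (CommRingCat.of A₁) ⟶ Spec (CommRingCat.of A₀) := Spec.map incl
  have htop₁ : J₀.map incl.hom = ⊤ := by
    rw [Ideal.eq_top_iff_one]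
    have key : ∀ x ∈ c.support, ∃ y : A₁, (y : Γ(T, ⊤)) = c x • x ∧ y ∈ J₀.map incl.hom := by
      intro x hx
      obtain ⟨z, hz, rfl⟩ := hcs hx
      refine ⟨⟨c (algebraMap A₀ _ z), le_sup_right (a := A₀)
        (Algebra.subset_adjoin (Finset.mem_image_of_mem _ hx))⟩ * incl.hom z, rfl, ?_⟩
      exact Ideal.mul_mem_left _ _ (Ideal.mem_map_of_mem _ hz)
    choose y hy hyJ using key
    have e : (∑ x ∈ c.support.attach, y x.1 x.2) = 1 := by
      apply Subtype.ext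
      rw [AddSubmonoidClass.coe_finset_sum]
      simp only [hy]
      rw [Finset.sum_attach c.support (fun x => c x • x)]
      exact hc
    rw [← e]
    exact sum_mem fun x _ => hyJ x.1 x.2
  let E := pullback q e₀
  let v : T ⟶ Spec (CommRingCat.of A₁) := T.isoSpec.hom ≫
    Spec.map (CommRingCat.ofHom (algebraMap A₁ Γ(T, ⊤)))
  have hv : v ≫ q = v₀ := by
    simp only [v, q, v₀, Category.assoc, ← Spec.map_comp]
    rfl
  have hsurj : Surjective (pullback.fst q e₀) := ⟨fun x => by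
    have hx : q x ∈ Set.range e₀ := by
      by_contra hx
      have hx' : q x ∈ (Set.range e₀)ᶜ := hx
      have hx'' := (PrimeSpectrum.mem_zeroLocus (PrimeSpectrum.comap incl.hom x) (J₀ : Set A₀)).1
        (hJ₀.le hx')
      refine x.isPrime.ne_top (top_le_iff.1 (htop₁ ▸ ?_))
      exact Ideal.map_le_iff_le_comap.2 hx''
    obtain ⟨b, hb⟩ := hx
    obtain ⟨z, hz, -⟩ := Scheme.Pullback.exists_preimage_pullback (f := q) (g := e₀) x b hb.symm
    exact ⟨z, hz⟩⟩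
  have hw : (a ≫ v) ≫ q = g₀ ≫ e₀ := by rw [Category.assoc, hv, sq₀.w]
  refine ⟨CommRingCat.of A₁, E, pullback.fst q e₀, v, pullback.lift (a ≫ v) g₀ hw,
    (Subalgebra.fg_iff_finiteType A₁).mp hfg, inferInstance, inferInstance, hsurj, ?_⟩
  refine IsPullback.flip (IsPullback.of_right ?_ (pullback.lift_fst _ _ _) (IsPullback.of_hasPullback q e₀).flip)
  rw [pullback.lift_snd, hv]
  exact sq₀.flip

end Groth.Agent.ThickSp15
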