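import Groth.Agent.Lib.ThickSp15.Base
import Groth.Agent.Lib.ThickSp15.Lift
import Groth.Agent.Lib.ThickSp15.Model

/-!
# Thickenings of affine schemes: preparations

Morphisms to affine schemes from ring maps, closed subschemes of affine schemes over the base, the
presentation of a closed subspace, and the quotient of the relation by the ideal of a thickened
affine scheme.
-/

universe u

set_option backward.isDefEq.respectTransparency.types false

open CategoryTheory CategoryTheory.Limits AlgebraicGeometry Opposite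

namespace Groth.Agent.ThickSp15

open AlgSp Groth.Agent.AlgSpace Groth.Agent.AlgSpDecent

/-- The morphism to an affine scheme given by a map of rings. -/
noncomputable def toAff {X : Scheme.{u}} {R : CommRingCat.{u}} (f : R ⟶ Γ(X, ⊤)) : X ⟶ Spec R :=
  X.toSpecΓ ≫ Spec.map f

theorem toAff_appTop {X : Scheme.{u}} {R : CommRingCat.{u}} (f : R ⟶ Γ(X, ⊤)) :
    (toAff f).appTop = (Scheme.ΓSpecIso R).hom ≫ f := by
  rw [toAff, Scheme.Hom.comp_appTop, Scheme.toSpecΓ_appTop]
  exact Scheme.ΓSpecIso_naturality f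

theorem toAff_eq {X : Scheme.{u}} {R : CommRingCat.{u}} (g : X ⟶ Spec R) :
    g = toAff ((Scheme.ΓSpecIso R).inv ≫ g.appTop) := by
  refine ext_of_isAffine ?_
  rw [toAff_appTop, Iso.hom_inv_id_assoc]

theorem toAff_str {X S : Scheme.{u}} [IsAffine S] {R : CommRingCat.{u}} (f : R ⟶ Γ(X, ⊤))
    (str : Γ(S, ⊤) ⟶ R) (g : X ⟶ S) (h : str ≫ f = g.appTop) :
    toAff f ≫ Spec.map str ≫ S.isoSpec.inv = g := by
  rw [toAff, Category.assoc, ← Spec.map_comp_assoc, h, ← Category.assoc,
    ← Scheme.toSpecΓ_naturality, Category.assoc, Scheme.toSpecΓ_isoSpec_inv, Category.comp_id]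

/-- A surjective closed immersion into an affine scheme has nil kernel. -/
theorem ker_le_nilradical {Z W : Scheme.{u}} [IsAffine Z] [IsAffine W] (ι : Z ⟶ W)
    [IsClosedImmersion ι] [Surjective ι] : RingHom.ker ι.appTop.hom ≤ nilradical Γ(W, ⊤) := by
  intro x hx
  rw [nilradical_eq_sInf, Ideal.mem_sInf]
  intro p hp
  have hsq : ι ≫ W.isoSpec.hom = Z.isoSpec.hom ≫ Spec.map ι.appTop :=
    (Scheme.isoSpec_hom_naturality ι).symm
  obtain ⟨z, hz⟩ := (ι ≫ W.isoSpec.hom).surjective (⟨p, hp⟩ : PrimeSpectrum Γ(W, ⊤))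
  rw [hsq, Scheme.Hom.comp_apply] at hz
  rw [show p = ((Spec.map ι.appTop) (Z.isoSpec.hom z)).asIdeal from
    (congrArg PrimeSpectrum.asIdeal hz).symm]
  change ι.appTop.hom x ∈ (Z.isoSpec.hom z).asIdeal
  rw [RingHom.mem_ker.1 hx]
  exact zero_mem _

variable {S : Scheme.{u}}

/-- The closed subscheme cut out by a nil ideal. -/
theorem exists_closed (W : Over S) [IsAffine W.left] (K : Ideal Γ(W.left, ⊤))
    (hK : K ≤ nilradical Γ(W.left, ⊤)) :
    ∃ (Z : Over S) (ι : Z ⟶ W), IsAffine Z.left ∧ IsClosedImmersion ι.left ∧ Surjective ι.left ∧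
      RingHom.ker ι.left.appTop.hom = K := by
  let R := CommRingCat.of (Γ(W.left, ⊤) ⧸ K)
  let q : Γ(W.left, ⊤) ⟶ R := CommRingCat.ofHom (Ideal.Quotient.mk K)
  let g : Spec R ⟶ W.left := Spec.map q ≫ W.left.isoSpec.inv
  have hc : IsClosedImmersion (Spec.map q) := .spec_of_surjective q Ideal.Quotient.mk_surjective
  have hs : Surjective (Spec.map q) := ⟨fun p => by
    have hle : K ≤ p.asIdeal := hK.trans (nilradical_le_prime _)
    have hmem : p ∈ PrimeSpectrum.zeroLocus (K : Set Γ(W.left, ⊤)) :=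
      (PrimeSpectrum.mem_zeroLocus p _).2 hle
    rw [← Ideal.mk_ker (I := K),
      ← range_comap_of_surjective _ _ Ideal.Quotient.mk_surjective] at hmem
    exact hmem⟩
  refine ⟨Over.mk (g ≫ W.hom), Over.homMk g rfl, isAffine_Spec _,
    inferInstanceAs (IsClosedImmersion g), inferInstanceAs (Surjective g), ?_⟩
  have hcomp : g.appTop ≫ (Scheme.ΓSpecIso R).hom = q := by
    simp only [g, Scheme.Hom.comp_appTop, Category.assoc, Scheme.ΓSpecIso_naturality]
    rw [← Scheme.toSpecΓ_appTop, ← Category.assoc, ← Scheme.Hom.comp_appTop,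
      Scheme.toSpecΓ_isoSpec_inv, Scheme.Hom.id_appTop, Category.id_comp]
  have e := congrArg (fun k => RingHom.ker k.hom) hcomp
  simp only [CommRingCat.hom_comp, q, CommRingCat.hom_ofHom, Ideal.mk_ker] at e
  rw [Ideal.mk_ker] at e
  refine Eq.trans ?_ e
  refine (RingHom.ker_comp_of_injective _ ?_).symm
  exact (Scheme.ΓSpecIso R).commRingCatIsoToRingEquiv.injective

/-- The functions on a fibre product of affine schemes are generated by the factors. -/
theorem closure_range_eq_top {A B C P : CommRingCat.{u}} {f : A ⟶ B} {g : A ⟶ C} {inl : B ⟶ P}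
    {inr : C ⟶ P} (h : IsPushout f g inl inr) :
    Subring.closure (Set.range inl.hom ∪ Set.range inr.hom) = ⊤ := by
  let T := Subring.closure (Set.range inl.hom ∪ Set.range inr.hom)
  let l : B ⟶ CommRingCat.of T := CommRingCat.ofHom
    (inl.hom.codRestrict T fun b => Subring.subset_closure (Or.inl ⟨b, rfl⟩))
  let r : C ⟶ CommRingCat.of T := CommRingCat.ofHom
    (inr.hom.codRestrict T fun b => Subring.subset_closure (Or.inr ⟨b, rfl⟩))
  have hw : f ≫ l = g ≫ r := by
    ext a
    exact RingHom.congr_fun (congrArg (fun k => k.hom) h.w) a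
  have e : h.desc l r hw ≫ CommRingCat.ofHom T.subtype = 𝟙 P := by
    apply h.hom_ext
    · rw [h.inl_desc_assoc, Category.comp_id]; rfl
    · rw [h.inr_desc_assoc, Category.comp_id]; rfl
  rw [eq_top_iff]
  intro x _
  have := RingHom.congr_fun (congrArg (fun k => k.hom) e) x
  simp only [CommRingCat.hom_comp, RingHom.comp_apply, CommRingCat.hom_ofHom, CommRingCat.hom_id,
    RingHom.id_apply] at this
  rw [← this]
  exact SetLike.coe_mem _

/-- Two ring maps out of a surjection with the extended kernel form a pushout square. -/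
theorem isPushout_of_surjective {A A₀ E C : CommRingCat.{u}} (ρ : A ⟶ A₀) (η : A ⟶ E) (a : A₀ ⟶ C)
    (φ : E ⟶ C) (w : ρ ≫ a = η ≫ φ) (hφ : Function.Surjective φ.hom)
    (hρ : Function.Surjective ρ.hom)
    (hker : RingHom.ker φ.hom ≤ (RingHom.ker ρ.hom).map η.hom) : IsPushout ρ η a φ := by
  have hk : ∀ s : PushoutCocone ρ η, RingHom.ker φ.hom ≤ RingHom.ker s.inr.hom := fun s => by
    refine hker.trans (Ideal.map_le_iff_le_comap.2 fun x hx => ?_)
    change s.inr.hom (η.hom x) = 0
    have := RingHom.congr_fun (congrArg (fun k => k.hom) s.condition) x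
    simp only [CommRingCat.hom_comp, RingHom.comp_apply] at this
    rw [← this, RingHom.mem_ker.1 hx, map_zero]
  let d : ∀ s : PushoutCocone ρ η, C ⟶ s.pt := fun s =>
    CommRingCat.ofHom (RingHom.liftOfSurjective φ.hom hφ ⟨s.inr.hom, hk s⟩)
  have hd : ∀ s, φ ≫ d s = s.inr := fun s =>
    CommRingCat.hom_ext (RingHom.liftOfSurjective_comp φ.hom hφ _)
  refine ⟨⟨w⟩, ⟨PushoutCocone.IsColimit.mk w d (fun s => ?_) hd fun s m _ h2 => ?_⟩⟩
  · ext x
    obtain ⟨y, rfl⟩ := hρ x
    have h1 := RingHom.congr_fun (congrArg (fun k => k.hom) ((reassoc_of% w) (d s))) y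
    rw [hd] at h1
    have h2 := RingHom.congr_fun (congrArg (fun k => k.hom) s.condition) y
    exact h1.trans h2.symm
  · ext x
    obtain ⟨y, rfl⟩ := hφ x
    exact RingHom.congr_fun (congrArg (fun k => k.hom) (h2.trans (hd s).symm)) y

/-- The presentation of a separated space by a given affine atlas. -/
noncomputable def grpdOf [S.IsSeparated] {X' : Sp S} (hsep : IsSeparatedSp X') (W : Over S)
    [IsAffine W.left] (p : (yon S).obj W ⟶ X') (hpe : RepWith @Etale p)
    (hps : RepWith @Surjective p) : Grpd X' where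
  W := W
  p := p
  R := hpe.1.pullback p
  t := (yon S).preimage (hpe.1.fst p)
  s := hpe.1.snd p
  affW := ‹_›
  affR := (isAffine_surjective_of_separated hsep (fst := (yon S).preimage (hpe.1.fst p)) (snd := hpe.1.snd p)
    (by rw [Functor.map_preimage]; exact hpe.1.isPullback p)).1
  et := hpe
  surj := hps
  sq := by rw [Functor.map_preimage]; exact hpe.1.isPullback p

variable {X' : Sp S} (G : Grpd X') {T : Over S} [IsAffine T.left] {i : (yon S).obj T ⟶ X'}
  {WX : Over S} {a : WX ⟶ T} {ι : WX ⟶ G.W} [IsAffine WX.left] [IsClosedImmersion ι.left] [Mono i]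
  (sq : IsPullback ((yon S).map a) ((yon S).map ι) i G.p)

include sq in
/-- The fibre square of the restricted presentation inside the relation. -/
theorem exists_relation_square :
    ∃ (RX : Over S) (pr₁ pr₂ : RX ⟶ WX) (r : RX ⟶ G.R), IsAffine RX.left ∧
      IsPullback pr₁.left pr₂.left a.left a.left ∧ IsPullback r.left pr₂.left G.s.left ι.left ∧
      pr₁ ≫ ι = r ≫ G.t := by
  let RX := Limits.pullback a a
  let pr₁ : RX ⟶ WX := pullback.fst a a
  let pr₂ : RX ⟶ WX := pullback.snd a a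
  have sqX : IsPullback pr₁ pr₂ a a := IsPullback.of_hasPullback a a
  have big : IsPullback ((yon S).map pr₁ ≫ (yon S).map ι) ((yon S).map pr₂) G.p
      ((yon S).map ι ≫ G.p) := by
    have := (sqX.map (yon S)).paste_horiz sq.flip
    rw [sq.w] at this
    exact this
  obtain ⟨r, hr⟩ := (yon S).map_surjective (G.sq.lift ((yon S).map (pr₁ ≫ ι))
    ((yon S).map (pr₂ ≫ ι)) (by
      have hc := (sqX.map (yon S)).w
      simp only [Functor.map_comp, Category.assoc, ← sq.w]
      rw [← Category.assoc, hc, Category.assoc]))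
  have h₁ : r ≫ G.t = pr₁ ≫ ι := (yon S).map_injective (by rw [Functor.map_comp, hr, G.sq.lift_fst])
  have h₂ : r ≫ G.s = pr₂ ≫ ι := (yon S).map_injective (by rw [Functor.map_comp, hr, G.sq.lift_snd])
  have sqR' : IsPullback ((yon S).map r) ((yon S).map pr₂) ((yon S).map G.s) ((yon S).map ι) := by
    refine IsPullback.of_right ?_ ?_ G.sq
    · rw [← Functor.map_comp, h₁, Functor.map_comp]; exact big
    · rw [← Functor.map_comp, h₂, Functor.map_comp]
  have sqR : IsPullback r pr₂ G.s ι := IsPullback.of_map (yon S)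
    ((yon S).map_injective (by rw [Functor.map_comp, Functor.map_comp, sqR'.w])) sqR'
  have hT : IsAffine ((Over.forget S).obj T) := ‹IsAffine T.left›
  have hW : IsAffine ((Over.forget S).obj WX) := ‹IsAffine WX.left›
  have hRX : IsAffine RX.left := .of_isIso (sqX.map (Over.forget S)).isoPullback.hom
  exact ⟨RX, pr₁, pr₂, r, hRX, sqX.map (Over.forget S), sqR.map (Over.forget S), h₁.symm⟩

include sq in
/-- The functions on the presentation of a thickened affine scheme and on its relation, as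
quotients. -/
theorem exists_quot_groupoid [Etale a.left] [Surjective a.left] :
    ∃ (aJ : Γ(T.left, ⊤) →+* Γ(G.W.left, ⊤) ⧸ RingHom.ker ι.left.appTop.hom)
      (tb sb : Γ(G.W.left, ⊤) ⧸ RingHom.ker ι.left.appTop.hom →+*
        Γ(G.R.left, ⊤) ⧸ (RingHom.ker ι.left.appTop.hom).map G.sr),
      aJ.FaithfullyFlat ∧
      (∀ b c, ι.left.appTop.hom b = a.left.appTop.hom c →
        aJ c = Ideal.Quotient.mk _ b) ∧
      (∀ x, tb (Ideal.Quotient.mk _ x) = Ideal.Quotient.mk _ (G.tr x)) ∧
      (∀ x, sb (Ideal.Quotient.mk _ x) = Ideal.Quotient.mk _ (G.sr x)) ∧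
      tb.comp aJ = sb.comp aJ ∧
      (∀ z, z ∈ Subring.closure (Set.range tb ∪ Set.range sb)) ∧
      ∀ (E : Type u) [CommRing E]
        (f g : Γ(G.W.left, ⊤) ⧸ RingHom.ker ι.left.appTop.hom →+* E), f.comp aJ = g.comp aJ →
        ∃ h : Γ(G.R.left, ⊤) ⧸ (RingHom.ker ι.left.appTop.hom).map G.sr →+* E,
          h.comp tb = f ∧ h.comp sb = g := by
  have := G.affW; have := G.affR
  obtain ⟨RX, pr₁, pr₂, r, hRX, sqX, sqR, h₁⟩ := exists_relation_square G sq
  let J := RingHom.ker ι.left.appTop.hom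
  let J₁ := J.map G.sr
  have hι : Function.Surjective ι.left.appTop.hom :=
    (IsClosedImmersion.isAffine_surjective_of_isAffine ι.left).2
  let eq₀ := RingHom.quotientKerEquivOfSurjective hι
  let aJ : Γ(T.left, ⊤) →+* Γ(G.W.left, ⊤) ⧸ J :=
    eq₀.symm.toRingHom.comp a.left.appTop.hom
  have haJ : ∀ b c, ι.left.appTop.hom b = a.left.appTop.hom c →
      aJ c = Ideal.Quotient.mk _ b := fun b c h => by
    change eq₀.symm (a.left.appTop.hom c) = _
    rw [RingEquiv.symm_apply_eq, ← h]
    rfl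
  have hff₀ : a.left.appTop.hom.FaithfullyFlat :=
    (Flat.flat_and_surjective_iff_faithfullyFlat_of_isAffine a.left).1 ⟨inferInstance, inferInstance⟩
  have hff : aJ.FaithfullyFlat :=
    RingHom.FaithfullyFlat.stableUnderComposition _ _ hff₀
      (RingHom.FaithfullyFlat.of_bijective eq₀.symm.bijective)
  have hts : J.map G.tr ≤ J₁ := isInv_ker G sq
  let tb : Γ(G.W.left, ⊤) ⧸ J →+* Γ(G.R.left, ⊤) ⧸ J₁ :=
    Ideal.quotientMap J₁ G.tr (Ideal.map_le_iff_le_comap.1 hts)
  let sb : Γ(G.W.left, ⊤) ⧸ J →+* Γ(G.R.left, ⊤) ⧸ J₁ :=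
    Ideal.quotientMap J₁ G.sr Ideal.le_comap_map
  have htb : ∀ x, tb (Ideal.Quotient.mk _ x) = Ideal.Quotient.mk _ (G.tr x) := fun _ => rfl
  have hsb : ∀ x, sb (Ideal.Quotient.mk _ x) = Ideal.Quotient.mk _ (G.sr x) := fun _ => rfl
  have hr₁ : ∀ x, r.left.appTop.hom (G.tr x) = pr₁.left.appTop.hom (ι.left.appTop.hom x) := fun x => by
    have := congrArg (fun f : RX ⟶ G.W => f.left.appTop.hom x) h₁
    simpa [Grpd.tr] using this.symm
  have hr₂ : ∀ x, r.left.appTop.hom (G.sr x) = pr₂.left.appTop.hom (ι.left.appTop.hom x) := fun x => by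
    have := congrArg (fun f => f.appTop.hom x) sqR.w
    simpa [Grpd.sr] using this
  have hJr : J₁ ≤ RingHom.ker r.left.appTop.hom := Ideal.map_le_iff_le_comap.2 fun x hx => by
    change r.left.appTop.hom (G.sr x) = 0
    rw [hr₂, RingHom.mem_ker.1 hx, map_zero]
  let rb : Γ(G.R.left, ⊤) ⧸ J₁ →+* Γ(RX.left, ⊤) :=
    Ideal.Quotient.lift J₁ r.left.appTop.hom hJr
  have hrb : Function.Injective rb := by
    refine RingHom.lift_injective_of_ker_le_ideal J₁ hJr ?_
    exact ker_fst_le sqR
  refine ⟨aJ, tb, sb, hff, haJ, htb, hsb, ?_, ?_, ?_⟩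
  · refine RingHom.ext fun c => ?_
    obtain ⟨b, hb⟩ := hι (a.left.appTop.hom c)
    simp only [RingHom.comp_apply, haJ b c hb, htb, hsb, Ideal.Quotient.eq]
    rw [← neg_sub]
    exact neg_mem (sub_mem_map_ker G sq hb)
  · intro z
    have hz : rb z ∈ (Subring.closure (Set.range tb ∪ Set.range sb)).map rb := by
      have h : (⊤ : Subring Γ(RX.left, ⊤)) ≤ (Subring.closure (Set.range tb ∪ Set.range sb)).map rb := by
        rw [← closure_range_eq_top (isPushout_appTop_of_isPullback sqX), RingHom.map_closure]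
        refine Subring.closure_mono ?_
        rintro _ (⟨y, rfl⟩ | ⟨y, rfl⟩)
        · obtain ⟨x, rfl⟩ := hι y
          exact ⟨tb (Ideal.Quotient.mk _ x), Or.inl ⟨_, rfl⟩, hr₁ x⟩
        · obtain ⟨x, rfl⟩ := hι y
          exact ⟨sb (Ideal.Quotient.mk _ x), Or.inr ⟨_, rfl⟩, hr₂ x⟩
      exact h (Subring.mem_top _)
    obtain ⟨y, hy, hy'⟩ := hz
    rwa [← hrb hy']
  · intro E _ f g hfg
    have hw : a.left.appTop ≫ CommRingCat.ofHom (f.comp eq₀.symm.toRingHom) =
        a.left.appTop ≫ CommRingCat.ofHom (g.comp eq₀.symm.toRingHom) := CommRingCat.hom_ext hfg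
    have sqP := isPushout_appTop_of_isPullback sqX
    refine ⟨(sqP.desc _ _ hw).hom.comp rb, ?_, ?_⟩
    · refine Ideal.Quotient.ringHom_ext (RingHom.ext fun x => ?_)
      change (sqP.desc _ _ hw).hom (r.left.appTop.hom (G.tr x)) = f (Ideal.Quotient.mk _ x)
      rw [hr₁, ← RingHom.comp_apply, ← CommRingCat.hom_comp, sqP.inl_desc]
      change f (eq₀.symm (eq₀ (Ideal.Quotient.mk _ x))) = _
      rw [RingEquiv.symm_apply_apply]
    · refine Ideal.Quotient.ringHom_ext (RingHom.ext fun x => ?_)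
      change (sqP.desc _ _ hw).hom (r.left.appTop.hom (G.sr x)) = g (Ideal.Quotient.mk _ x)
      rw [hr₂, ← RingHom.comp_apply, ← CommRingCat.hom_comp, sqP.inr_desc]
      change g (eq₀.symm (eq₀ (Ideal.Quotient.mk _ x))) = _
      rw [RingEquiv.symm_apply_apply]

end Groth.Agent.ThickSp15
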