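import Groth.Agent.Lib.ThickSp15.Groupoid
import Groth.Agent.Lib.TopInv15.Full
import Groth.Agent.Lib.AlgSpace.AffineDescent

/-!
# Thickenings of affine schemes: the relation with a presentation, and the affineness criterion
-/

universe u

set_option backward.isDefEq.respectTransparency.types false

open CategoryTheory CategoryTheory.Limits AlgebraicGeometry Opposite

namespace Groth.Agent.ThickSp15

open AlgSp Groth.Agent.AlgSpace Groth.Agent.AlgSpDecent

variable {S : Scheme.{u}} {X' : Sp S}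

noncomputable def terminal_over : IsTerminal ((yon S).obj (Over.mk (𝟙 S))) :=
  IsTerminal.isTerminalObj (yon S) _ Over.mkIdTerminal

theorem isUH_of_thick {X X' : Sp S} {i : X ⟶ X'} (hi : IsThickMor i) : TopInv15.IsUH i := by
  refine ⟨repWith_mono (fun A B g (hg : thick g) => ?_) hi, repWith_mono (fun A B g (hg : thick g) => ?_) hi,
    repWith_mono (fun A B g (hg : thick g) => hg.2) hi⟩
  · have : IsClosedImmersion g := hg.1
    infer_instance
  · have : IsClosedImmersion g := hg.1
    infer_instance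

/-- A thickening of an affine scheme is separated. -/
theorem isSeparatedSp_of_thick [IsAffine S] (hX' : IsAlgSpace X') {T : Over S} [IsAffine T.left]
    {i : (yon S).obj T ⟶ X'} (hi : IsThickMor i) : IsSeparatedSp X' := by
  let one : Over S := Over.mk (𝟙 S)
  let f : X' ⟶ (yon S).obj one := terminal_over.from _
  have hsepT : IsSeparated T.hom := by
    have e : T.hom = T.left.isoSpec.hom ≫ Spec.map T.hom.appTop ≫ S.isoSpec.inv := by
      rw [Scheme.isoSpec_hom_naturality_assoc, Iso.hom_inv_id, Category.comp_id]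
    rw [e]; infer_instance
  let tT : T ⟶ one := Over.homMk T.hom (Category.comp_id _)
  have hT : IsSeparatedMor ((yon S).map tT) :=
    (repWith_diagonal_yon_map_iff _ tT).2 (inferInstanceAs (IsClosedImmersion (pullback.diagonal T.hom)))
  have hid : IsThickMor (𝟙 ((yon S).obj one)) := ⟨(repWith_id @IsClosedImmersion one).1,
    fun U V g fst snd sq => ⟨(repWith_id @IsClosedImmersion one).2 g fst snd sq,
      (repWith_id @Surjective one).2 g fst snd sq⟩⟩
  have hf : IsSeparatedMor f := (AlgSpDescent.thick_separated_iff (f' := f) hi hid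
    (IsAlgSpace.yon_obj T) hX' (IsAlgSpace.yon_obj one) (IsAlgSpace.yon_obj one)
    (terminal_over.hom_ext _ _)).1 hT
  let m : pullback f f ⟶ X' ⨯ X' := prod.lift (pullback.fst f f) (pullback.snd f f)
  have : IsIso m := ⟨pullback.lift prod.fst prod.snd (terminal_over.hom_ext _ _),
    by apply pullback.hom_ext <;> simp [m, pullback.lift_fst, pullback.lift_snd] <;>
      first | exact Limits.prod.lift_fst _ _ | exact Limits.prod.lift_snd _ _,
    by apply Limits.prod.hom_ext <;> simp [m, pullback.lift_fst, pullback.lift_snd, prod.lift_fst, prod.lift_snd]⟩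
  have e : Limits.diag X' = pullback.diagonal f ≫ m := by
    apply Limits.prod.hom_ext <;> simp [m]
  change RepWith @IsClosedImmersion (Limits.diag X')
  rw [e]
  exact (repWith_respectsIso_right m).2 hf

/-- A thickening of an affine scheme is separated and quasi-compact, so has an affine presentation. -/
theorem exists_grpd_of_thick [IsAffine S] (hX' : IsAlgSpace X') {T : Over S} [IsAffine T.left]
    {i : (yon S).obj T ⟶ X'} (hi : IsThickMor i) : Nonempty (Grpd X') := by
  have hcs : CompactSpace (Points ((yon S).obj T)) :=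
    (Points.schemeEquiv T).surjective.compactSpace (Points.schemeHomeo T).continuous
  have hqc : CompactSpace (Points X') :=
    (AlgSpDescent.surjective_of_thick hi).compactSpace (Points.continuous_map i)
  exact exists_grpd hX' hqc (isSeparatedSp_of_thick hX' hi)

variable (G : Grpd X') {T : Over S} [IsAffine T.left] {i : (yon S).obj T ⟶ X'} {WX : Over S}
  {a : WX ⟶ T} {ι : WX ⟶ G.W}

/-- The restriction of a presentation to a thickened affine scheme. -/
theorem exists_restrict (hi : IsThickMor i) :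
    ∃ (WX : Over S) (a : WX ⟶ T) (ι : WX ⟶ G.W), IsAffine WX.left ∧ IsClosedImmersion ι.left ∧
      Surjective ι.left ∧ Etale a.left ∧ Surjective a.left ∧
      IsPullback ((yon S).map a) ((yon S).map ι) i G.p := by
  have sq := hi.1.isPullback G.p
  obtain ⟨a, ha⟩ := (yon S).map_surjective (hi.1.fst G.p)
  rw [← ha] at sq
  have h : thick (hi.1.snd G.p).left := hi.2 _ _ _ sq
  have := G.affW
  have : IsClosedImmersion (hi.1.snd G.p).left := h.1
  exact ⟨_, a, hi.1.snd G.p, isAffine_of_isAffineHom (hi.1.snd G.p).left, h.1, h.2,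
    (repWith_yon_map_iff _ _).1 (repWith_of_isPullback sq.flip G.et),
    (repWith_yon_map_iff _ _).1 (repWith_of_isPullback sq.flip G.surj), sq⟩

/-- The kernel of the base change of a closed immersion of affine schemes. -/
theorem ker_fst_le {A B C P : Scheme.{u}} [IsAffine A] [IsAffine B] [IsAffine C] [IsAffine P]
    {fst : P ⟶ A} {snd : P ⟶ B} {f : A ⟶ C} {ι : B ⟶ C} (sq : IsPullback fst snd f ι)
    [IsClosedImmersion ι] :
    RingHom.ker fst.appTop.hom ≤ (RingHom.ker ι.appTop.hom).map f.appTop.hom := by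
  have sqP := isPushout_appTop_of_isPullback sq
  let J := (RingHom.ker ι.appTop.hom).map f.appTop.hom
  let ψ : Γ(B, ⊤) →+* Γ(A, ⊤) ⧸ J := RingHom.liftOfSurjective ι.appTop.hom
    (IsClosedImmersion.isAffine_surjective_of_isAffine ι).2
    ⟨(Ideal.Quotient.mk J).comp f.appTop.hom, fun x hx =>
      Ideal.Quotient.eq_zero_iff_mem.2 (Ideal.mem_map_of_mem _ hx)⟩
  have hψ : ψ.comp ι.appTop.hom = (Ideal.Quotient.mk J).comp f.appTop.hom :=
    RingHom.liftOfSurjective_comp ι.appTop.hom _ _
  have hw : f.appTop ≫ CommRingCat.ofHom (Ideal.Quotient.mk J) = ι.appTop ≫ CommRingCat.ofHom ψ :=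
    CommRingCat.hom_ext hψ.symm
  intro x hx
  have h := congrArg (fun k => k.hom x) (sqP.inl_desc _ _ hw)
  have hx0 : fst.appTop.hom x = 0 := hx
  simp only [CommRingCat.hom_comp, RingHom.comp_apply, hx0, map_zero, CommRingCat.hom_ofHom] at h
  exact Ideal.Quotient.eq_zero_iff_mem.1 h.symm

variable [IsAffine WX.left] [IsClosedImmersion ι.left] [Mono i]
  (sq : IsPullback ((yon S).map a) ((yon S).map ι) i G.p)

include sq in
/-- The two pullbacks of the thickened scheme to the relation agree. -/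
theorem exists_relation_restrict :
    ∃ (RX : Over S) (j : RX ⟶ G.R) (α β : RX ⟶ WX), α ≫ ι = j ≫ G.t ∧ β ≫ ι = j ≫ G.s ∧
      α ≫ a = β ≫ a ∧
      RingHom.ker j.left.appTop.hom ≤ (RingHom.ker ι.left.appTop.hom).map G.sr := by
  have := G.affW; have := G.affR
  let RX := Limits.pullback G.s ι
  let j : RX ⟶ G.R := pullback.fst G.s ι
  let β : RX ⟶ WX := pullback.snd G.s ι
  have w : j ≫ G.s = β ≫ ι := pullback.condition
  have hp : (yon S).map (β ≫ a) ≫ i = ((yon S).map (j ≫ G.t)) ≫ G.p := by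
    simp only [Functor.map_comp, Category.assoc, sq.w, G.sq.w]
    rw [← Functor.map_comp_assoc, ← w, Functor.map_comp_assoc]
  obtain ⟨α, hα⟩ := (yon S).map_surjective (sq.lift _ _ hp)
  have h₁ : α ≫ a = β ≫ a := (yon S).map_injective (by rw [Functor.map_comp, hα, sq.lift_fst])
  have h₂ : α ≫ ι = j ≫ G.t := (yon S).map_injective (by rw [Functor.map_comp, hα, sq.lift_snd])
  have sqS := (IsPullback.of_hasPullback G.s ι).map (Over.forget S)
  have : IsAffine ((Over.forget S).obj G.R) := G.affR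
  have : IsAffine ((Over.forget S).obj G.W) := G.affW
  have : IsAffine ((Over.forget S).obj WX) := ‹IsAffine WX.left›
  have : IsAffine RX.left := .of_isIso sqS.isoPullback.hom
  have : IsClosedImmersion ((Over.forget S).map ι) := ‹IsClosedImmersion ι.left›
  have : IsAffine ((Over.forget S).obj RX) := ‹IsAffine RX.left›
  exact ⟨RX, j, α, β, h₂, w.symm, h₁, ker_fst_le sqS⟩

include sq in
theorem isInv_ker : G.IsInv (RingHom.ker ι.left.appTop.hom) := by
  obtain ⟨RX, j, α, β, hα, hβ, hab, hker⟩ := exists_relation_restrict G sq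
  unfold Grpd.IsInv
  rw [Ideal.map_le_iff_le_comap]
  intro x hx
  refine hker ?_
  rw [RingHom.mem_ker]
  have := congrArg (fun f : RX ⟶ G.W => f.left.appTop.hom x) hα
  simp only [Over.comp_left, Scheme.Hom.comp_appTop, CommRingCat.hom_comp, RingHom.comp_apply] at this
  rw [RingHom.mem_ker.1 hx, map_zero] at this
  exact this.symm

include sq in
theorem sub_mem_map_ker {b : Γ(G.W.left, ⊤)} {c : Γ(T.left, ⊤)}
    (hb : ι.left.appTop.hom b = a.left.appTop.hom c) :
    G.sr b - G.tr b ∈ (RingHom.ker ι.left.appTop.hom).map G.sr := by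
  obtain ⟨RX, j, α, β, hα, hβ, hab, hker⟩ := exists_relation_restrict G sq
  refine hker ?_
  rw [RingHom.mem_ker, map_sub]
  have e₁ := congrArg (fun f : RX ⟶ G.W => f.left.appTop.hom b) hα
  have e₂ := congrArg (fun f : RX ⟶ G.W => f.left.appTop.hom b) hβ
  have e₃ := congrArg (fun f : RX ⟶ T => f.left.appTop.hom c) hab
  simp only [Over.comp_left, Scheme.Hom.comp_appTop, CommRingCat.hom_comp, RingHom.comp_apply] at e₁ e₂ e₃
  rw [← e₁, ← e₂, hb, e₃, sub_self]

include sq in
/-- The thickened scheme lies in every closed subspace containing it on the presentation. -/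
theorem exists_lift_sub (hi : IsThickMor i) [Etale a.left] [Surjective a.left]
    {Z : Over S} {ιK : Z ⟶ G.W} {XK : Sp S} {j : XK ⟶ X'} {π : (yon S).obj Z ⟶ XK}
    (hj : IsThickMor j) (sqP : IsPullback π ((yon S).map ιK) j G.p) {l : WX ⟶ Z} (hl : l ≫ ιK = ι) :
    ∃ k : (yon S).obj T ⟶ XK, k ≫ j = i ∧ IsThickMor k ∧
      IsPullback ((yon S).map a) ((yon S).map l) k π := by
  have hjm : Mono j := AlgSpDescent.mono_of_thick hj
  have : Epi ((yon S).map a) := (CategoryTheory.Sheaf.isLocallySurjective_iff_epi _).1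
    (isLocallySurjective_of_etale ((repWith_yon_map_iff _ _).2 ‹Etale a.left›)
      ((repWith_yon_map_iff _ _).2 ‹Surjective a.left›))
  have w : ((yon S).map l ≫ π) ≫ j = (yon S).map a ≫ i := by
    rw [Category.assoc, sqP.w, ← Functor.map_comp_assoc, hl, sq.w]
  have hreg : IsRegularEpi ((yon S).map a) := IsRegularEpiCategory.regularEpiOfEpi _
  obtain ⟨k, hk⟩ := (IsRegularEpi.getStruct ((yon S).map a)).desc' ((yon S).map l ≫ π) (by
    rw [← cancel_mono j, Category.assoc, Category.assoc, ← Category.assoc ((yon S).map l), w,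
      reassoc_of% (IsRegularEpi.getStruct ((yon S).map a)).w]
    simp only [← Category.assoc, Category.assoc, w])
  have hkj : k ≫ j = i := by
    rw [← cancel_epi ((yon S).map a), reassoc_of% hk, ← Category.assoc, w]
  have hsqk : IsPullback ((yon S).map a) ((yon S).map l) k π := by
    refine IsPullback.of_bot ?_ hk sqP
    rw [hkj, ← Functor.map_comp, hl]
    exact sq
  refine ⟨k, hkj, ?_, hsqk⟩
  have h := AlgSpDescent.isPullback_of_mono_comp (f := k) hjm
  rw [hkj] at h
  exact repWith_of_isPullback h hi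

/-- A space thickening an affine scheme with a morphism to an affine scheme pulling back a descended
étale cover to an affine atlas is affine. -/
theorem exists_affine_of_base {XK : Sp S} (hXK : IsAlgSpace XK) {T Z WX P E₀ : Over S}
    [IsAffine P.left] [IsAffine E₀.left] [IsAffine Z.left] {k : (yon S).obj T ⟶ XK} (hk : IsThickMor k)
    {π : (yon S).obj Z ⟶ XK} (hπ : RepWith @Etale π) {a : WX ⟶ T} {l : WX ⟶ Z}
    (sqk : IsPullback ((yon S).map a) ((yon S).map l) k π) (e₀ : E₀ ⟶ P) [Etale e₀.left]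
    [Surjective e₀.left] (Φ : XK ⟶ (yon S).obj P) {u : T ⟶ P} (hu : k ≫ Φ = (yon S).map u)
    {g₀ : WX ⟶ E₀} (sq₀ : IsPullback a g₀ u e₀) :
    ∃ T' : Over S, IsAffine T'.left ∧ Nonempty ((yon S).obj T' ≅ XK) := by
  have sqQ := IsPullback.of_hasPullback Φ ((yon S).map e₀)
  let Q := pullback Φ ((yon S).map e₀)
  let a₂ : Q ⟶ XK := pullback.fst Φ ((yon S).map e₀)
  have hQ : IsAlgSpace Q := isAlgSpace_pullback (IsAlgSpace.yon_obj P) hXK (IsAlgSpace.yon_obj E₀) sqQ
  have ha₂r : RepWith @Etale a₂ :=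
    repWith_of_isPullback sqQ.flip ((repWith_yon_map_iff _ _).2 ‹Etale e₀.left›)
  have ha₂ : IsEtaleMor a₂ := AlgSpDescent.isEtaleMor_of_locP_etale hQ hXK (locP_of_repWith hXK ha₂r)
  have hπe : IsEtaleMor π := AlgSpDescent.isEtaleMor_of_locP_etale (IsAlgSpace.yon_obj Z) hXK
    (locP_of_repWith hXK hπ)
  have sq₀' : IsPullback ((yon S).map a) ((yon S).map g₀) (k ≫ Φ) ((yon S).map e₀) :=
    hu ▸ sq₀.map (yon S)
  let c₂ : (yon S).obj WX ⟶ Q := pullback.lift ((yon S).map a ≫ k) ((yon S).map g₀)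
    (by rw [Category.assoc]; exact sq₀'.w)
  have sqc : IsPullback ((yon S).map a) c₂ k a₂ := by
    refine IsPullback.flip (IsPullback.of_right ?_ (pullback.lift_fst _ _ _) sqQ.flip)
    rw [pullback.lift_snd]
    exact sq₀'.flip
  have hUH := isUH_of_thick hk
  have hex := fun {V₁ V₂ : Sp S} => @TopInv15.existsUnique_hom S ((yon S).obj T) XK V₁ V₂
    ((yon S).obj WX) ((yon S).obj WX) hXK
  obtain ⟨ψ, ⟨hψ₁, hψ₂⟩, -⟩ := hex (IsAlgSpace.yon_obj Z) hQ hUH ha₂ sqk sqc (𝟙 _) (Category.id_comp _)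
  obtain ⟨ψ', ⟨hψ'₁, hψ'₂⟩, -⟩ := hex hQ (IsAlgSpace.yon_obj Z) hUH hπe sqc sqk (𝟙 _) (Category.id_comp _)
  simp only [Category.id_comp] at hψ₂ hψ'₂
  obtain ⟨_, -, hun⟩ := hex (IsAlgSpace.yon_obj Z) (IsAlgSpace.yon_obj Z) hUH hπe sqk sqk (𝟙 _) (Category.id_comp _)
  obtain ⟨_, -, hun'⟩ := hex hQ hQ hUH ha₂ sqc sqc (𝟙 _) (Category.id_comp _)
  have : IsIso ψ := by
    refine ⟨ψ', ?_, ?_⟩
    · rw [hun (ψ ≫ ψ') ⟨by rw [Category.assoc, hψ'₁, hψ₁], by rw [reassoc_of% hψ₂, hψ'₂, Category.id_comp]⟩,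
        hun (𝟙 _) ⟨Category.id_comp _, by rw [Category.id_comp, Category.comp_id]⟩]
    · rw [hun' (ψ' ≫ ψ) ⟨by rw [Category.assoc, hψ₁, hψ'₁], by rw [reassoc_of% hψ'₂, hψ₂, Category.id_comp]⟩,
        hun' (𝟙 _) ⟨Category.id_comp _, by rw [Category.id_comp, Category.comp_id]⟩]
  obtain ⟨q, hq⟩ := (yon S).map_surjective (ψ ≫ pullback.snd Φ ((yon S).map e₀))
  have sqm : IsPullback π ((yon S).map q) Φ ((yon S).map e₀) := by
    refine IsPullback.of_iso_pullback ⟨?_⟩ (asIso ψ) hψ₁ (by rw [hq]; rfl)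
    rw [hq, ← hψ₁, Category.assoc, Category.assoc]
    exact congrArg (ψ ≫ ·) sqQ.w
  obtain ⟨A, i', fst, h, hA, hfst, -⟩ := exists_affine_of_cover Φ (𝟙 ((yon S).obj P)) e₀ q π
    (by rw [Category.comp_id]; exact sqm)
  have : IsIso fst := by
    have := hfst
    exact MorphismProperty.of_isPullback (P := MorphismProperty.isomorphisms (Sp S)) this.flip
      (inferInstanceAs (IsIso (𝟙 _)))
  exact ⟨A, hA, ⟨asIso fst⟩⟩

end Groth.Agent.ThickSp15
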