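import Groth.Agent.Lib.ThickSp15.Setup
import Groth.Agent.Lib.Hens.EtaleLift

/-!
# A thickening of an affine scheme over an affine base is affine

First reduce to a thickening with nilpotent ideal through a model of the presentation of finite
type, then to square zero ideals, where invariant functions lift.
-/

universe u

set_option backward.isDefEq.respectTransparency.types false

open CategoryTheory CategoryTheory.Limits AlgebraicGeometry Opposite

namespace Groth.Agent.ThickSp15

open AlgSp Groth.Agent.AlgSpace Groth.Agent.AlgSpDecent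

variable {S : Scheme.{u}}

/-- An affine model, over the base, of an affine étale cover. -/
theorem exists_base_model [IsAffine S] {T W : Over S} [IsAffine T.left] [IsAffine W.left]
    (a : W ⟶ T) [Etale a.left] [Surjective a.left] :
    ∃ (A₁ : CommRingCat.{u}) (P E₀ : Over S) (pr : P.left ⟶ Spec A₁) (e₀ : E₀ ⟶ P) (u : T ⟶ P)
      (g₀ : W ⟶ E₀), Algebra.FiniteType ℤ A₁ ∧ IsAffine P.left ∧ IsAffine E₀.left ∧
      Etale e₀.left ∧ Surjective e₀.left ∧ IsPullback a g₀ u e₀ ∧
      Subring.closure (Set.range P.hom.appTop.hom ∪ Set.range pr.appTop.hom) = ⊤ ∧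
      ∀ (Z : Over S) (w : Z.left ⟶ Spec A₁), ∃ φ : Z ⟶ P, φ.left ≫ pr = w ∧
        ∀ ψ : Z ⟶ P, ψ.left ≫ pr = w → ψ = φ := by
  obtain ⟨A₁, E, e, v, g, hA₁, hE, het, hes, sq⟩ := exists_model a.left
  let P : Over S := Over.mk (pullback.fst (terminal.from S) (terminal.from (Spec A₁)))
  let pr : P.left ⟶ Spec A₁ := pullback.snd (terminal.from S) (terminal.from (Spec A₁))
  have sqP : IsPullback P.hom pr (terminal.from S) (terminal.from (Spec A₁)) :=
    IsPullback.of_hasPullback _ _
  have : IsAffine P.left := .of_isIso sqP.isoPullback.hom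
  let E₀ : Over S := Over.mk (pullback.fst pr e ≫ P.hom)
  let e₀ : E₀ ⟶ P := Over.homMk (pullback.fst pr e) rfl
  have sqE : IsPullback e₀.left (pullback.snd pr e) pr e := IsPullback.of_hasPullback _ _
  have : IsAffine E₀.left := .of_isIso sqE.isoPullback.hom
  have huniq : ∀ (Z : Over S) (w : Z.left ⟶ Spec A₁), ∃ φ : Z ⟶ P, φ.left ≫ pr = w ∧
      ∀ ψ : Z ⟶ P, ψ.left ≫ pr = w → ψ = φ := fun Z w =>
    ⟨Over.homMk (sqP.lift Z.hom w (terminal.hom_ext _ _)) (sqP.lift_fst _ _ _), sqP.lift_snd _ _ _,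
      fun ψ hψ => Over.OverMorphism.ext (sqP.hom_ext ((Over.w ψ).trans (sqP.lift_fst _ _ _).symm)
        (hψ.trans (sqP.lift_snd _ _ _).symm))⟩
  obtain ⟨u, hu, -⟩ := huniq T v
  have hw : (a ≫ u).left ≫ pr = g ≫ e := by
    rw [Over.comp_left, Category.assoc, hu, sq.w]
  let g₀ : W ⟶ E₀ := Over.homMk (sqE.lift (a ≫ u).left g hw) (by
    change _ ≫ e₀.left ≫ P.hom = _
    rw [sqE.lift_fst_assoc, Over.w])
  refine ⟨A₁, P, E₀, pr, e₀, u, g₀, hA₁, ‹_›, ‹_›, MorphismProperty.of_isPullback sqE.flip het,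
    MorphismProperty.of_isPullback sqE.flip hes, ?_,
    closure_range_eq_top (isPushout_appTop_of_isPullback sqP), huniq⟩
  have h₀ : IsPullback a.left g₀.left u.left e₀.left := by
    refine IsPullback.flip (IsPullback.of_right ?_ (sqE.lift_fst _ _ _) sqE.flip)
    have e₁ : g₀.left ≫ pullback.snd pr e = g := sqE.lift_snd _ _ _
    rw [e₁, hu]
    exact sq.flip
  exact IsPullback.of_map (Over.forget S)
    (Over.OverMorphism.ext (by rw [Over.comp_left, Over.comp_left]; exact h₀.w)) h₀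

variable {X' : Sp S}

/-- A thickening of an affine scheme is a thickening of an affine scheme with nilpotent ideal on
a presentation. -/
theorem exists_step [IsAffine S] (hX' : IsAlgSpace X') (G : Grpd X') {T : Over S} [IsAffine T.left]
    {i : (yon S).obj T ⟶ X'} (hi : IsThickMor i) {WX : Over S} {a : WX ⟶ T} {ι : WX ⟶ G.W}
    [IsAffine WX.left] [IsClosedImmersion ι.left] [Surjective ι.left] [Etale a.left]
    [Surjective a.left] (sq : IsPullback ((yon S).map a) ((yon S).map ι) i G.p) :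
    ∃ (T' Z : Over S) (a' : Z ⟶ T') (ιZ : Z ⟶ G.W) (j : (yon S).obj T' ⟶ X'),
      IsAffine T'.left ∧ IsAffine Z.left ∧ IsClosedImmersion ιZ.left ∧ Surjective ιZ.left ∧
      IsThickMor j ∧ Etale a'.left ∧ Surjective a'.left ∧
      IsPullback ((yon S).map a') ((yon S).map ιZ) j G.p ∧
      IsNilpotent (RingHom.ker ιZ.left.appTop.hom) := by
  classical
  have := G.affW; have := G.affR
  have : Mono i := AlgSpDescent.mono_of_thick hi
  obtain ⟨A₁, P, E₀, pr, e₀, u, g₀, hA₁, hP, hE₀, het, hes, sq₀, hgen, huniq⟩ := exists_base_model a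
  obtain ⟨n, π₁, hπ₁⟩ := Algebra.FiniteType.iff_quotient_mvPolynomial''.1 hA₁
  let v₁ : A₁ ⟶ Γ(T.left, ⊤) := (Scheme.ΓSpecIso A₁).inv ≫ (u.left ≫ pr).appTop
  have hι : Function.Surjective ι.left.appTop.hom :=
    (IsClosedImmersion.isAffine_surjective_of_isAffine ι.left).2
  choose b hb using fun k => hι (a.left.appTop.hom (v₁.hom (π₁ (MvPolynomial.X k))))
  let ev : MvPolynomial (Fin n) ℤ →+* Γ(G.W.left, ⊤) := (MvPolynomial.aeval b).toRingHom
  have hev : ι.left.appTop.hom.comp ev = (a.left.appTop.hom.comp v₁.hom).comp π₁.toRingHom := by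
    refine MvPolynomial.ringHom_ext (fun z => ?_) fun k => ?_
    · rw [eq_intCast MvPolynomial.C z, map_intCast, map_intCast]
    · change ι.left.appTop.hom (MvPolynomial.aeval b (MvPolynomial.X k)) = _
      rw [MvPolynomial.aeval_X, hb]
      rfl
  obtain ⟨ρ, hρ⟩ := IsNoetherian.noetherian (RingHom.ker π₁.toRingHom)
  let c : Finset Γ(G.R.left, ⊤) := Finset.univ.image fun k => G.sr (b k) - G.tr (b k)
  let r : Finset Γ(G.W.left, ⊤) := ρ.image ev
  obtain ⟨e, hes', het'⟩ := G.exists_unit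
  obtain ⟨D, _, inl, inr, m, hD, hinr, hmt, hms⟩ := G.exists_composable
  obtain ⟨K, hKI, hKnil, hKinv, hKc, hKr⟩ := exists_invariant_nilpotent hD G.sr_flat hmt hms e hes'
    het' (RingHom.ker ι.left.appTop.hom) (ker_le_nilradical ι.left) (isInv_ker G sq) c (by
      intro x hx
      obtain ⟨k, -, rfl⟩ := Finset.mem_image.1 hx
      exact sub_mem_map_ker G sq (hb k)) r (by
      intro x hx
      obtain ⟨y, hy, rfl⟩ := Finset.mem_image.1 hx
      have h0 : π₁.toRingHom y = 0 := RingHom.mem_ker.1 (hρ ▸ Ideal.subset_span hy)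
      rw [RingHom.mem_ker, ← RingHom.comp_apply, hev, RingHom.comp_apply, h0, map_zero])
  obtain ⟨Z, ιZ, hZ, hZc, hZs, hker⟩ :=
    exists_closed G.W K (hKI.trans (ker_le_nilradical ι.left))
  have hZinv : G.IsInv (RingHom.ker ιZ.left.appTop.hom) := by rw [hker]; exact hKinv
  obtain ⟨XK, hXK, j, π, hj, sqP, hπe, hπs⟩ := exists_sub hX' G ιZ hZinv
  have hle : RingHom.ker π₁.toRingHom ≤ RingHom.ker (ιZ.left.appTop.hom.comp ev) := by
    rw [← hρ]
    refine Ideal.span_le.2 fun y hy => ?_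
    change ιZ.left.appTop.hom (ev y) = 0
    rw [← RingHom.mem_ker, hker]
    exact hKr _ (Finset.mem_image_of_mem _ hy)
  let φ₁ : A₁ →+* Γ(Z.left, ⊤) :=
    RingHom.liftOfSurjective π₁.toRingHom hπ₁ ⟨ιZ.left.appTop.hom.comp ev, hle⟩
  have hφ₁ : φ₁.comp π₁.toRingHom = ιZ.left.appTop.hom.comp ev :=
    RingHom.liftOfSurjective_comp π₁.toRingHom hπ₁ _
  obtain ⟨φ, hφ, -⟩ := huniq Z (toAff (CommRingCat.ofHom φ₁))
  have hφpr : ∀ x, φ.left.appTop.hom (pr.appTop.hom x) = φ₁ ((Scheme.ΓSpecIso A₁).hom x) := fun x => by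
    have := congrArg (fun k => k.appTop) hφ
    rw [Scheme.Hom.comp_appTop, toAff_appTop] at this
    exact RingHom.congr_fun (congrArg (fun k => k.hom) this) x
  have hevK : ∀ y, G.sr (ev y) - G.tr (ev y) ∈ K.map G.sr := by
    intro y
    rw [← Ideal.Quotient.eq]
    refine RingHom.congr_fun (f := ((Ideal.Quotient.mk _).comp G.sr).comp ev)
      (g := ((Ideal.Quotient.mk _).comp G.tr).comp ev) (MvPolynomial.ringHom_ext (fun z => ?_) fun k => ?_) y
    · rw [eq_intCast MvPolynomial.C z, map_intCast, map_intCast]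
    · simp only [RingHom.comp_apply, Ideal.Quotient.eq]
      have e₁ : ev (MvPolynomial.X k) = b k := MvPolynomial.aeval_X b k
      rw [e₁]
      exact hKc _ (Finset.mem_image.2 ⟨k, Finset.mem_univ _, rfl⟩)
  let good : Subring Γ(P.left, ⊤) :=
    (((RingHom.eqLocus ((Ideal.Quotient.mk (K.map G.sr)).comp G.sr)
      ((Ideal.Quotient.mk _).comp G.tr))).map ιZ.left.appTop.hom).comap φ.left.appTop.hom
  have hgood : good = ⊤ := by
    rw [eq_top_iff, ← hgen, Subring.closure_le]
    rintro _ (⟨x, rfl⟩ | ⟨x, rfl⟩)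
    · refine ⟨G.W.hom.appTop.hom x, ?_, ?_⟩
      · have e₁ := congrArg (fun k : G.R.left ⟶ S => k.appTop.hom x) ((Over.w G.s).trans (Over.w G.t).symm)
        simp only [Scheme.Hom.comp_appTop, CommRingCat.hom_comp, RingHom.comp_apply] at e₁
        exact congrArg (Ideal.Quotient.mk _) e₁
      · have e₁ := congrArg (fun k : Z.left ⟶ S => k.appTop.hom x) ((Over.w ιZ).trans (Over.w φ).symm)
        simp only [Scheme.Hom.comp_appTop, CommRingCat.hom_comp, RingHom.comp_apply] at e₁
        exact e₁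
    · obtain ⟨y, hy⟩ := hπ₁ ((Scheme.ΓSpecIso A₁).hom x)
      refine ⟨ev y, Ideal.Quotient.eq.2 (hevK y), ?_⟩
      rw [hφpr, ← hy]
      exact (RingHom.congr_fun hφ₁ y).symm
  obtain ⟨Φ, hΦ⟩ := exists_desc G ιZ sqP hπe hπs φ (fun x => by
    obtain ⟨y, hy, hy'⟩ := (hgood ▸ Subring.mem_top x : x ∈ good)
    rw [hker]
    exact ⟨y, hy', Ideal.Quotient.eq.1 hy⟩)
  obtain ⟨l', hl'⟩ := exists_fac_of_ker_le ιZ.left ι.left (hker.le.trans hKI)
  let l : WX ⟶ Z := Over.homMk l' (by rw [← Over.w ιZ, reassoc_of% hl', Over.w ι])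
  have hl : l ≫ ιZ = ι := Over.OverMorphism.ext hl'
  obtain ⟨k, hkj, hk, sqk⟩ := exists_lift_sub G sq hi hj sqP hl
  have hlφ : l ≫ φ = a ≫ u := by
    obtain ⟨φ', -, hφ'⟩ := huniq WX ((a ≫ u).left ≫ pr)
    rw [hφ' (a ≫ u) rfl, hφ' (l ≫ φ)]
    rw [Over.comp_left, Category.assoc, hφ]
    refine ext_of_isAffine ?_
    rw [Scheme.Hom.comp_appTop, toAff_appTop, ← cancel_epi (Scheme.ΓSpecIso A₁).inv, Category.assoc,
      Iso.inv_hom_id_assoc, Over.comp_left, Category.assoc, Scheme.Hom.comp_appTop]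
    ext x
    obtain ⟨y, rfl⟩ := hπ₁ x
    change l.left.appTop.hom ((φ₁.comp π₁.toRingHom) y) =
      a.left.appTop.hom ((v₁.hom.comp π₁.toRingHom) y)
    have e₁ := RingHom.congr_fun hφ₁ y
    have e₂ := RingHom.congr_fun hev y
    have e₃ := congrArg (fun f : WX ⟶ G.W => f.left.appTop.hom (ev y)) hl
    simp only [Over.comp_left, Scheme.Hom.comp_appTop, CommRingCat.hom_comp, RingHom.comp_apply] at e₁ e₂ e₃ ⊢
    rw [e₁, e₃, e₂]
  have hu : k ≫ Φ = (yon S).map u := by
    have : Epi ((yon S).map a) := (CategoryTheory.Sheaf.isLocallySurjective_iff_epi _).1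
      (isLocallySurjective_of_etale ((repWith_yon_map_iff _ _).2 ‹Etale a.left›)
        ((repWith_yon_map_iff _ _).2 ‹Surjective a.left›))
    rw [← cancel_epi ((yon S).map a), reassoc_of% sqk.w, hΦ, ← Functor.map_comp, ← Functor.map_comp,
      hlφ]
  obtain ⟨T', hT', ⟨iso⟩⟩ := exists_affine_of_base hXK hk hπe sqk e₀ Φ hu sq₀
  obtain ⟨a', ha'⟩ := (yon S).map_surjective (π ≫ iso.inv)
  have hj' : IsThickMor (iso.hom ≫ j) := (repWith_respectsIso_left (P := thick) iso.hom).2 hj
  have sq' : IsPullback ((yon S).map a') ((yon S).map ιZ) (iso.hom ≫ j) G.p := by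
    rw [ha']
    refine IsPullback.of_iso sqP (Iso.refl _) iso.symm (Iso.refl _) (Iso.refl _) ?_ ?_ ?_ ?_ <;> simp
  exact ⟨T', Z, a', ιZ, iso.hom ≫ j, hT', hZ, hZc, hZs, hj',
    (repWith_yon_map_iff _ _).1 (repWith_of_isPullback sq'.flip G.et),
    (repWith_yon_map_iff _ _).1 (repWith_of_isPullback sq'.flip G.surj), sq', hker.symm ▸ hKnil⟩

set_option maxHeartbeats 1000000 in
/-- A first order thickening of an affine scheme is affine. -/
theorem exists_affine_of_sq_zero [IsAffine S] (hX' : IsAlgSpace X') (G : Grpd X') {T : Over S}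
    [IsAffine T.left] {i : (yon S).obj T ⟶ X'} (hi : IsThickMor i) {WX : Over S} {a : WX ⟶ T}
    {ι : WX ⟶ G.W} [IsAffine WX.left] [IsClosedImmersion ι.left] [Surjective ι.left] [Etale a.left]
    [Surjective a.left] (sq : IsPullback ((yon S).map a) ((yon S).map ι) i G.p)
    (h0 : RingHom.ker ι.left.appTop.hom ^ 2 = ⊥) :
    ∃ T' : Over S, IsAffine T'.left ∧ Nonempty ((yon S).obj T' ≅ X') := by
  have := G.affW; have := G.affR
  have : Mono i := AlgSpDescent.mono_of_thick hi
  obtain ⟨aJ, tb, sb, hff, haJ, htb, hsb, hab, hgenJ, hC⟩ := exists_quot_groupoid G sq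
  obtain ⟨D, _, inl, inr, m, hD, hinr, hmt, hms⟩ := G.exists_composable
  have hJ : ∀ x ∈ RingHom.ker ι.left.appTop.hom, ∀ y ∈ RingHom.ker ι.left.appTop.hom, x * y = 0 :=
    fun x hx y hy => by
      have := Ideal.mul_mem_mul hx hy
      rwa [← pow_two, h0, Ideal.mem_bot] at this
  have hι : Function.Surjective ι.left.appTop.hom :=
    (IsClosedImmersion.isAffine_surjective_of_isAffine ι.left).2
  have hainj : Function.Injective a.left.appTop.hom :=
    RingHom.FaithfullyFlat.injective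
      ((Flat.flat_and_surjective_iff_faithfullyFlat_of_isAffine a.left).1 ⟨inferInstance, inferInstance⟩)
  let A' : Subring Γ(G.W.left, ⊤) :=
    RingHom.eqLocus G.sr G.tr ⊓ a.left.appTop.hom.range.comap ι.left.appTop.hom
  let R := CommRingCat.of A'
  choose ρ₀ hρ₀ using fun x : A' => x.2.2
  let ρ : R ⟶ Γ(T.left, ⊤) := CommRingCat.ofHom
    { toFun := ρ₀
      map_one' := hainj (by rw [hρ₀, map_one, OneMemClass.coe_one, map_one])
      map_mul' := fun x y => hainj (by rw [hρ₀, map_mul, hρ₀, hρ₀, MulMemClass.coe_mul, map_mul])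
      map_zero' := hainj (by rw [hρ₀, map_zero, ZeroMemClass.coe_zero, map_zero])
      map_add' := fun x y => hainj (by rw [hρ₀, map_add, hρ₀, hρ₀, AddMemClass.coe_add, map_add]) }
  let incl : R ⟶ Γ(G.W.left, ⊤) := CommRingCat.ofHom A'.subtype
  have hρi : ρ ≫ a.left.appTop = incl ≫ ι.left.appTop := by
    ext x
    exact hρ₀ x
  have hρ : Function.Surjective ρ.hom := by
    intro c
    obtain ⟨b, hb⟩ := hι (a.left.appTop.hom c)
    obtain ⟨j, hj, hbj⟩ := exists_invariant_lift hD hinr hmt hms _ hJ (isInv_ker G sq) aJ hff tb sb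
      htb hsb hab hgenJ hC b ⟨c, haJ b c hb⟩
    have hc : ι.left.appTop.hom (b + j) = a.left.appTop.hom c := by
      rw [map_add, hb, RingHom.mem_ker.1 hj, add_zero]
    refine ⟨⟨b + j, hbj, ⟨c, hc.symm⟩⟩, hainj ?_⟩
    exact (hρ₀ _).trans hc
  let str : Γ(S, ⊤) ⟶ R := CommRingCat.ofHom (G.W.hom.appTop.hom.codRestrict A' fun x => by
    refine ⟨?_, ⟨T.hom.appTop.hom x, ?_⟩⟩
    · have e₁ := congrArg (fun k : G.R.left ⟶ S => k.appTop.hom x) ((Over.w G.s).trans (Over.w G.t).symm)
      simp only [Scheme.Hom.comp_appTop, CommRingCat.hom_comp, RingHom.comp_apply] at e₁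
      exact e₁
    · have e₁ := congrArg (fun k : WX.left ⟶ S => k.appTop.hom x) ((Over.w a).trans (Over.w ι).symm)
      simp only [Scheme.Hom.comp_appTop, CommRingCat.hom_comp, RingHom.comp_apply] at e₁
      exact e₁)
  have hstr : str ≫ ρ = T.hom.appTop := by
    ext x
    refine hainj ((hρ₀ _).trans ?_)
    have e₁ := congrArg (fun k : WX.left ⟶ S => k.appTop.hom x) ((Over.w ι).trans (Over.w a).symm)
    simp only [Scheme.Hom.comp_appTop, CommRingCat.hom_comp, RingHom.comp_apply] at e₁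
    exact e₁
  let P : Over S := Over.mk (Spec.map str ≫ S.isoSpec.inv)
  let u : T ⟶ P := Over.homMk (toAff ρ) (toAff_str _ _ _ hstr)
  let φ : G.W ⟶ P := Over.homMk (toAff incl) (toAff_str _ _ _ (CommRingCat.hom_ext rfl))
  -- lift the cover
  let I' : Ideal A' := RingHom.ker ρ.hom
  let q : A' ⧸ I' ≃+* Γ(T.left, ⊤) := RingHom.quotientKerEquivOfSurjective hρ
  letI : Algebra A' Γ(WX.left, ⊤) := (a.left.appTop.hom.comp ρ.hom).toAlgebra
  letI : Algebra (A' ⧸ I') Γ(WX.left, ⊤) := (a.left.appTop.hom.comp q.toRingHom).toAlgebra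
  have : IsScalarTower A' (A' ⧸ I') Γ(WX.left, ⊤) := ⟨fun x y z => by
    obtain ⟨y, rfl⟩ := Ideal.Quotient.mk_surjective y
    change a.left.appTop.hom (ρ.hom (x * y)) * z =
      a.left.appTop.hom (ρ.hom x) * (a.left.appTop.hom (ρ.hom y) * z)
    rw [map_mul, map_mul, mul_assoc]⟩
  have : Algebra.Etale (A' ⧸ I') Γ(WX.left, ⊤) := RingHom.etale_algebraMap.1
    (RingHom.Etale.respectsIso.2 _ q
      ((HasRingHomProperty.iff_of_isAffine (P := @Etale) (f := a.left)).1 ‹_›))
  obtain ⟨E, _, _, hE, φE, hφE, hkerE⟩ := Hens.exists_etale_lift A' I' Γ(WX.left, ⊤)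
  let η : R ⟶ CommRingCat.of E := CommRingCat.ofHom (algebraMap A' E)
  let φ' : CommRingCat.of E ⟶ Γ(WX.left, ⊤) := CommRingCat.ofHom φE.toRingHom
  have hpo : IsPushout ρ η a.left.appTop φ' := isPushout_of_surjective ρ η a.left.appTop φ'
    (CommRingCat.hom_ext (φE.comp_algebraMap).symm) hφE hρ hkerE.le
  let E₀ : Over S := Over.mk (Spec.map η ≫ P.hom)
  let e₀ : E₀ ⟶ P := Over.homMk (Spec.map η) rfl
  have hsqS : IsPullback a.left (toAff φ') (toAff ρ) (Spec.map η) :=
    (isPullback_SpecMap_of_isPushout _ _ _ _ hpo).of_iso WX.left.isoSpec.symm T.left.isoSpec.symm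
      (Iso.refl _) (Iso.refl _) (by simp [Scheme.isoSpec_inv_naturality])
      (by simp [toAff, Scheme.toSpecΓ_isoSpec_inv_assoc, ← Scheme.isoSpec_hom, Iso.inv_hom_id_assoc])
      (by simp [toAff, ← Scheme.isoSpec_hom, Iso.inv_hom_id_assoc]) (by simp)
  let g₀ : WX ⟶ E₀ := Over.homMk (toAff φ') (by
    change _ ≫ Spec.map η ≫ P.hom = _
    rw [← reassoc_of% hsqS.w]
    exact (congrArg (a.left ≫ ·) (Over.w u)).trans (Over.w a))
  have sq₀ : IsPullback a g₀ u e₀ := IsPullback.of_map (Over.forget S)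
    (Over.OverMorphism.ext (by rw [Over.comp_left, Over.comp_left]; exact hsqS.w)) hsqS
  have : Etale e₀.left := by
    change Etale (Spec.map η)
    rw [HasRingHomProperty.Spec_iff (P := @Etale)]
    exact RingHom.etale_algebraMap.2 hE
  have : Surjective u.left := by
    change Surjective (toAff ρ)
    have : Surjective (Spec.map ρ) := ⟨fun p => by
      have hle : I' ≤ p.asIdeal := by
        intro x hx
        have hx0 : (x : Γ(G.W.left, ⊤)) ∈ RingHom.ker ι.left.appTop.hom := by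
          rw [RingHom.mem_ker]
          refine (hρ₀ x).symm.trans ?_
          rw [show ρ₀ x = 0 from hx, map_zero]
        have : x * x = 0 := Subtype.ext (hJ _ hx0 _ hx0)
        exact (p.isPrime.mem_or_mem (this ▸ zero_mem _)).elim id id
      have hmem : p ∈ PrimeSpectrum.zeroLocus (I' : Set A') := (PrimeSpectrum.mem_zeroLocus p _).2 hle
      rw [← range_comap_of_surjective _ _ hρ] at hmem
      exact hmem⟩
    rw [toAff, ← Scheme.isoSpec_hom]
    infer_instance
  have : Surjective e₀.left := by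
    have : Surjective (g₀.left ≫ e₀.left) := by
      rw [← Over.comp_left, ← sq₀.w, Over.comp_left]
      infer_instance
    exact Surjective.of_comp g₀.left e₀.left
  obtain ⟨Φ, hΦ⟩ := exists_desc G (𝟙 G.W) (j := 𝟙 X') (π := G.p)
    (by rw [(yon S).map_id]; exact IsPullback.of_vert_isIso ⟨by simp⟩) G.et G.surj φ (fun x => by
      refine ⟨((Scheme.ΓSpecIso R).hom x : A'), ?_, ?_⟩
      · change _ = (toAff incl).appTop.hom x
        rw [toAff_appTop]
        rfl
      · rw [show G.sr _ = G.tr _ from ((Scheme.ΓSpecIso R).hom x : A').2.1, sub_self]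
        exact zero_mem _)
  have hu : i ≫ Φ = (yon S).map u := by
    have : Epi ((yon S).map a) := (CategoryTheory.Sheaf.isLocallySurjective_iff_epi _).1
      (isLocallySurjective_of_etale ((repWith_yon_map_iff _ _).2 ‹Etale a.left›)
        ((repWith_yon_map_iff _ _).2 ‹Surjective a.left›))
    rw [← cancel_epi ((yon S).map a), reassoc_of% sq.w, hΦ, ← Functor.map_comp, ← Functor.map_comp]
    refine congrArg _ (Over.OverMorphism.ext (ext_of_isAffine ?_))
    change (ι.left ≫ toAff incl).appTop = (a.left ≫ toAff ρ).appTop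
    rw [Scheme.Hom.comp_appTop, Scheme.Hom.comp_appTop, toAff_appTop, toAff_appTop, Category.assoc,
      Category.assoc, hρi]
  exact exists_affine_of_base hX' hi G.et sq e₀ Φ hu sq₀

/-- A thickening of an affine scheme with nilpotent ideal on a presentation is affine. -/
theorem exists_affine_of_nilpotent [IsAffine S] (N : ℕ) :
    ∀ {X' : Sp S} (_ : IsAlgSpace X') (G : Grpd X') {T WX : Over S} [IsAffine T.left]
      {i : (yon S).obj T ⟶ X'} (_ : IsThickMor i) {a : WX ⟶ T} {ι : WX ⟶ G.W}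
      [IsAffine WX.left] [IsClosedImmersion ι.left] [Surjective ι.left] [Etale a.left]
      [Surjective a.left] (_ : IsPullback ((yon S).map a) ((yon S).map ι) i G.p)
      (_ : RingHom.ker ι.left.appTop.hom ^ (2 ^ (N + 1)) = ⊥),
      ∃ T' : Over S, IsAffine T'.left ∧ Nonempty ((yon S).obj T' ≅ X') := by
  induction N with
  | zero =>
    intro X' hX' G T WX _ i hi a ι _ _ _ _ _ sq h0
    exact exists_affine_of_sq_zero hX' G hi sq (by simpa using h0)
  | succ N ih =>
    intro X' hX' G T WX _ i hi a ι _ _ _ _ _ sq h0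
    have := G.affW; have := G.affR
    have : Mono i := AlgSpDescent.mono_of_thick hi
    let I := RingHom.ker ι.left.appTop.hom
    have hI2 : I ^ 2 ≤ nilradical Γ(G.W.left, ⊤) :=
      (Ideal.pow_le_self two_ne_zero).trans (ker_le_nilradical ι.left)
    obtain ⟨Z, ιZ, hZ, hZc, hZs, hker⟩ := exists_closed G.W (I ^ 2) hI2
    obtain ⟨XK, hXK, j, π, hj, sqP, hπe, hπs⟩ :=
      exists_sub hX' G ιZ (by rw [hker]; exact (isInv_ker G sq).pow G 2)
    obtain ⟨l', hl'⟩ := exists_fac_of_ker_le ιZ.left ι.left (hker.le.trans (Ideal.pow_le_self two_ne_zero))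
    let l : WX ⟶ Z := Over.homMk l' (by rw [← Over.w ιZ, reassoc_of% hl', Over.w ι])
    have hl : l ≫ ιZ = ι := Over.OverMorphism.ext hl'
    obtain ⟨k, hkj, hk, sqk⟩ := exists_lift_sub G sq hi hj sqP hl
    let G' := grpdOf (isSeparatedSp_of_thick hXK hk) Z π hπe hπs
    have hlc : IsClosedImmersion l.left := by
      have : IsClosedImmersion (l.left ≫ ιZ.left) := by rw [← Over.comp_left, hl]; infer_instance
      exact IsClosedImmersion.of_comp l.left ιZ.left
    have hls : Surjective l.left := ⟨fun z => by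
      obtain ⟨w, hw⟩ := ι.left.surjective (ιZ.left z)
      refine ⟨w, ιZ.left.isClosedEmbedding.injective ?_⟩
      rw [← Scheme.Hom.comp_apply, ← Over.comp_left, hl]
      exact hw⟩
    have h2 : RingHom.ker l.left.appTop.hom ^ 2 = ⊥ := by
      rw [pow_two, ← le_bot_iff, Ideal.mul_le]
      intro x hx y hy
      obtain ⟨x, rfl⟩ := (IsClosedImmersion.isAffine_surjective_of_isAffine ιZ.left).2 x
      obtain ⟨y, rfl⟩ := (IsClosedImmersion.isAffine_surjective_of_isAffine ιZ.left).2 y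
      have key : ∀ z, l.left.appTop.hom (ιZ.left.appTop.hom z) = 0 → z ∈ I := fun z hz => by
        rw [RingHom.mem_ker]
        have := congrArg (fun f : WX ⟶ G.W => f.left.appTop.hom z) hl
        simp only [Over.comp_left, Scheme.Hom.comp_appTop, CommRingCat.hom_comp, RingHom.comp_apply] at this
        rw [← this, hz]
      rw [Ideal.mem_bot, ← map_mul, ← RingHom.mem_ker, hker, pow_two]
      exact Ideal.mul_mem_mul (key x hx) (key y hy)
    obtain ⟨T', hT', ⟨iso⟩⟩ := @exists_affine_of_sq_zero S XK _ hXK G' T _ k hk WX a l _ hlc hls _ _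
      sqk h2
    obtain ⟨a', ha'⟩ := (yon S).map_surjective (π ≫ iso.inv)
    have hj' : IsThickMor (iso.hom ≫ j) := (repWith_respectsIso_left (P := thick) iso.hom).2 hj
    have sq' : IsPullback ((yon S).map a') ((yon S).map ιZ) (iso.hom ≫ j) G.p := by
      rw [ha']
      refine IsPullback.of_iso sqP (Iso.refl _) iso.symm (Iso.refl _) (Iso.refl _) ?_ ?_ ?_ ?_ <;> simp
    have : Etale a'.left := (repWith_yon_map_iff _ _).1 (repWith_of_isPullback sq'.flip G.et)
    have : Surjective a'.left := (repWith_yon_map_iff _ _).1 (repWith_of_isPullback sq'.flip G.surj)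
    refine ih hX' G hj' sq' ?_
    rw [hker, ← pow_mul, ← pow_succ']
    exact h0

/-- A thickening of an affine scheme over an affine base is affine. -/
theorem exists_affine_of_thick [IsAffine S] (hX' : IsAlgSpace X') {T : Over S} [IsAffine T.left]
    {i : (yon S).obj T ⟶ X'} (hi : IsThickMor i) :
    ∃ T' : Over S, IsAffine T'.left ∧ Nonempty ((yon S).obj T' ≅ X') := by
  obtain ⟨G⟩ := exists_grpd_of_thick hX' hi
  obtain ⟨WX, a, ι, hWX, hιc, hιs, ha, has, sq⟩ := exists_restrict G hi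
  obtain ⟨T', Z, a', ιZ, j, hT', hZ, hZc, hZs, hj, ha', has', sq', n, hn⟩ := exists_step hX' G hi sq
  exact exists_affine_of_nilpotent n hX' G hj sq' (le_bot_iff.1
    ((Ideal.pow_le_pow_right (Nat.lt_two_pow_self.le.trans
      (Nat.pow_le_pow_right two_pos n.le_succ))).trans hn.le))

end Groth.Agent.ThickSp15
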