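import Groth.Agent.Lib.ThickSp15.Scheme
import Groth.Agent.Lib.TopInv15.Exists
import Groth.Prelude.Def_AlgSpOX2

/-!
# The small étale site of a thickening
-/

universe u

set_option backward.isDefEq.respectTransparency.types false

open CategoryTheory CategoryTheory.Limits AlgebraicGeometry Opposite

namespace Groth.Agent.ThickSp15

open AlgSp Groth.Agent.AlgSpace Groth.Agent.AlgSpDecent

variable {S : Scheme.{u}} {X X' : Sp S} {i : X ⟶ X'}

theorem bijective_bc_map (hX' : IsAlgSpace X') (hi : IsThickMor i) (E E' : EtOver X') :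
    Function.Bijective ((EtOver.bc hi.1).map (X := E) (Y := E')) := by
  have hex : ∀ φ : (EtOver.bc hi.1).obj E ⟶ (EtOver.bc hi.1).obj E',
      ∃! φ' : (yon S).obj E.obj.left ⟶ (yon S).obj E'.obj.left,
        φ' ≫ E'.obj.hom = E.obj.hom ∧
          (yon S).map (EtOver.bcπ hi.1 E) ≫ φ' =
            (yon S).map φ.hom.left ≫ (yon S).map (EtOver.bcπ hi.1 E') := fun φ =>
    TopInv15.existsUnique_hom hX' (IsAlgSpace.yon_obj _) (IsAlgSpace.yon_obj _) (isUH_of_thick hi)
      (isEtaleMor_of_repWith _ E'.property) (EtOver.isPullback_bcObj hi.1 E)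
      (EtOver.isPullback_bcObj hi.1 E') ((yon S).map φ.hom.left) (EtOver.w φ)
  have hsnd : ∀ g : E ⟶ E', (yon S).map (EtOver.bcπ hi.1 E) ≫ (yon S).map g.hom.left =
      (yon S).map ((EtOver.bc hi.1).map g).hom.left ≫ (yon S).map (EtOver.bcπ hi.1 E') := fun g => by
    rw [← Functor.map_comp, ← Functor.map_comp]
    exact congrArg _ (EtOver.bcMap_snd hi.1 g).symm
  refine ⟨fun g g' h => EtOver.hom_ext _ _ ((yon S).map_injective ?_), fun φ => ?_⟩
  · exact (hex ((EtOver.bc hi.1).map g)).unique ⟨EtOver.w g, hsnd g⟩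
      ⟨EtOver.w g', (hsnd g').trans (by rw [h])⟩
  · obtain ⟨ψ, ⟨h₁, h₂⟩, -⟩ := hex φ
    obtain ⟨ψ, rfl⟩ := (yon S).map_surjective ψ
    refine ⟨EtOver.homMk ψ h₁, EtOver.hom_ext _ _ (hi.1.hom_ext ?_ ?_)⟩
    · exact (EtOver.map_bcMap_fst hi.1 _).trans (EtOver.w φ).symm
    · refine (EtOver.bcMap_snd hi.1 _).trans ((yon S).map_injective ?_)
      exact (((yon S).map_comp _ _).trans h₂).trans ((yon S).map_comp _ _).symm

theorem exists_bc_iso (hX : IsAlgSpace X) (hX' : IsAlgSpace X') (hi : IsThickMor i) (E₀ : EtOver X) :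
    ∃ E : EtOver X', Nonempty ((EtOver.bc hi.1).obj E ≅ E₀) := by
  obtain ⟨V', hV', a, c, ha, sq⟩ := TopInv15.exists_etale_descent hX hX' (IsAlgSpace.yon_obj _)
    (isUH_of_thick hi) E₀.obj.hom (isEtaleMor_of_repWith _ E₀.property)
  have hc : IsThickMor c := repWith_of_isPullback sq hi
  obtain ⟨U, ⟨e⟩⟩ := exists_scheme_of_thick hV' hc
  have he : RepWith @Etale e.hom := (repWith_respectsIso_left e.hom).2
    (MorphismProperty.id_mem (RepWith (S := S) @Etale) V') |> fun h => by simpa using h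
  let E : EtOver X' := EtOver.mk (e.hom ≫ a) (ha e.hom he)
  have sq' : IsPullback E₀.obj.hom (c ≫ e.inv) i E.obj.hom :=
    IsPullback.of_iso sq (Iso.refl _) (Iso.refl _) e.symm (Iso.refl _)
      (by simp) (by simp) (by simp) (by simp [E])
  let f := (EtOver.isPullback_bcObj hi.1 E).isoIsPullback _ _ sq'
  refine ⟨E, ⟨ObjectProperty.isoMk _ (CostructuredArrow.isoMk ((yon S).preimageIso f) ?_)⟩⟩
  change (yon S).map ((yon S).preimage f.hom) ≫ E₀.obj.hom = _
  rw [Functor.map_preimage]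
  exact (EtOver.isPullback_bcObj hi.1 E).isoIsPullback_hom_fst _ _ sq'

theorem isEquivalence_bc (hX : IsAlgSpace X) (hX' : IsAlgSpace X') (hi : IsThickMor i) :
    (EtOver.bc hi.1).IsEquivalence where
  faithful := ⟨fun {E E'} => (bijective_bc_map hX' hi E E').1⟩
  full := ⟨fun {E E'} => (bijective_bc_map hX' hi E E').2⟩
  essSurj := ⟨fun E₀ => exists_bc_iso hX hX' hi E₀⟩

end Groth.Agent.ThickSp15
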