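import Mathlib.RingTheory.RingHom.Flat
import Mathlib.RingTheory.RingHom.FaithfullyFlat
import Mathlib.RingTheory.Flat.FaithfullyFlat.Algebra
import Mathlib.RingTheory.TensorProduct.Basic
import Mathlib.RingTheory.Nilpotent.Lemmas
import Mathlib.Algebra.Module.Torsion.Basic

/-!
# Groupoids of rings: invariant nilpotent ideals and lifting of invariant functions

`s, t : B → C` are the structure maps of a flat groupoid of affine schemes, `inl, inr : C → D` the
projections from composable pairs and `m : C → D` the composition.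
-/

universe u

open TensorProduct

namespace Groth.Agent.ThickSp15

variable {B C D : Type u} [CommRing B] [CommRing C] [CommRing D]

/-- The composable pairs form a pushout. -/
def IsComposable (s t : B →+* C) (inl inr : C →+* D) : Prop :=
  inl.comp s = inr.comp t ∧ ∀ (E : Type u) [CommRing E] (f g : C →+* E), f.comp s = g.comp t →
    ∃ h : D →+* E, h.comp inl = f ∧ h.comp inr = g

/-- Over a flat algebra, `x ⊗ 1 = 0` in `C ⊗ Q` means `x` lies in the extension of the kernel of
`B → Q`. -/
theorem mem_map_ker_of_tmul_eq_zero {Q : Type u} [CommRing Q] [Algebra B C] [Algebra B Q]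
    [Module.Flat B C] {x : C} (hx : x ⊗ₜ[B] (1 : Q) = 0) :
    x ∈ (RingHom.ker (algebraMap B Q)).map (algebraMap B C) := by
  let K := RingHom.ker (algebraMap B Q)
  let ψ : (B ⧸ K) →ₐ[B] Q := Ideal.Quotient.liftₐ K (Algebra.ofId B Q) fun y hy => hy
  have hψ : Function.Injective ψ := RingHom.lift_injective_of_ker_le_ideal K _ le_rfl
  have hψC := Module.Flat.lTensor_preserves_injective_linearMap (M := C) ψ.toLinearMap hψ
  have h1 : x ⊗ₜ[B] (1 : B ⧸ K) = 0 := hψC (by
    rw [map_zero, LinearMap.lTensor_tmul, AlgHom.toLinearMap_apply, map_one, hx])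
  have := congrArg (Algebra.TensorProduct.quotIdealMapEquivTensorQuot C K).symm h1
  rw [map_zero, show (1 : B ⧸ K) = Ideal.Quotient.mk K 1 from rfl,
    Algebra.TensorProduct.quotIdealMapEquivTensorQuot_symm_tmul] at this
  exact Ideal.Quotient.eq_zero_iff_mem.1 (show Ideal.Quotient.mk (K.map (algebraMap B C)) x = 0 by
    simpa using this)

/-- Over a flat map, an element vanishing in the base change of `B/K ↪ Q` lies in `K C`. -/
theorem mem_map_ker {s t : B →+* C} {inl inr : C →+* D} (hD : IsComposable s t inl inr)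
    (hs : s.Flat) {Q : Type u} [CommRing Q] (π : C →+* Q) {x : C}
    (hx : inl x ∈ (RingHom.ker π).map inr) : x ∈ (RingHom.ker (π.comp t)).map s := by
  letI : Algebra B C := s.toAlgebra
  letI : Algebra B Q := (π.comp t).toAlgebra
  have : Module.Flat B C := hs
  refine mem_map_ker_of_tmul_eq_zero (Q := Q) ?_
  obtain ⟨h, hl, hr⟩ := hD.2 (C ⊗[B] Q)
    (Algebra.TensorProduct.includeLeft (S := B)).toRingHom
    ((Algebra.TensorProduct.includeRight : Q →ₐ[B] C ⊗[B] Q).toRingHom.comp π) (by
        ext y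
        change algebraMap B C y ⊗ₜ[B] (1 : Q) = (1 : C) ⊗ₜ[B] algebraMap B Q y
        rw [Algebra.algebraMap_eq_smul_one, Algebra.algebraMap_eq_smul_one, smul_tmul])
  have h0 : h (inl x) = 0 := by
    have : (RingHom.ker π).map inr ≤ RingHom.ker h := by
      rw [Ideal.map_le_iff_le_comap]
      intro g hg
      change h (inr g) = 0
      rw [← RingHom.comp_apply, hr]
      change (1 : C) ⊗ₜ[B] π g = 0
      rw [RingHom.mem_ker.1 hg, tmul_zero]
    exact this hx
  rw [← RingHom.comp_apply, hl] at h0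
  exact h0

theorem mem_map_comap {s t : B →+* C} {inl inr : C →+* D} (hD : IsComposable s t inl inr)
    (hs : s.Flat) (G : Ideal C) {x : C} (hx : inl x ∈ G.map inr) : x ∈ (G.comap t).map s := by
  have := mem_map_ker hD hs (Ideal.Quotient.mk G) (x := x) (by rwa [Ideal.mk_ker])
  rwa [← RingHom.comap_ker, Ideal.mk_ker] at this

/-- Finitely many elements of a nil invariant ideal lie in a nilpotent invariant ideal. -/
theorem exists_invariant_nilpotent {s t : B →+* C} {inl inr m : C →+* D}
    (hD : IsComposable s t inl inr) (hs : s.Flat) (hmt : m.comp t = inl.comp t)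
    (hms : m.comp s = inr.comp s) (e : C →+* B) (hes : e.comp s = RingHom.id B)
    (het : e.comp t = RingHom.id B) (I : Ideal B) (hI : I ≤ nilradical B)
    (hts : I.map t ≤ I.map s) (c : Finset C) (hc : ∀ x ∈ c, x ∈ I.map s)
    (r : Finset B) (hr : ∀ x ∈ r, x ∈ I) :
    ∃ K : Ideal B, K ≤ I ∧ IsNilpotent K ∧ K.map t ≤ K.map s ∧ (∀ x ∈ c, x ∈ K.map s) ∧
      ∀ x ∈ r, x ∈ K := by
  classical
  have key : ∀ x ∈ I.map s, ∃ T : Finset B, ↑T ⊆ (I : Set B) ∧ x ∈ (Ideal.span (T : Set B)).map s := by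
    intro x hx
    rw [Ideal.map] at hx
    obtain ⟨T, hT, hxT⟩ := Submodule.mem_span_finite_of_mem_span hx
    obtain ⟨T', hT', rfl⟩ := Finset.subset_set_image_iff.1 hT
    refine ⟨T', hT', ?_⟩
    rw [Ideal.map_span]
    simpa using hxT
  choose Tc hTc hTcx using fun x : c => key x.1 (hc x.1 x.2)
  let T₀ : Finset B := r ∪ Finset.univ.biUnion Tc
  have hT₀ : ∀ y ∈ T₀, y ∈ I := by
    intro y hy
    rcases Finset.mem_union.1 hy with h | h
    · exact hr y h
    · obtain ⟨x, -, hx⟩ := Finset.mem_biUnion.1 h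
      exact hTc x hx
  choose Tg hTg hTgx using fun y : T₀ => key (t y.1) (hts (Ideal.mem_map_of_mem t (hT₀ y.1 y.2)))
  let G : Finset B := Finset.univ.biUnion Tg
  have hG : ∀ y ∈ G, y ∈ I := by
    intro y hy
    obtain ⟨x, -, hx⟩ := Finset.mem_biUnion.1 hy
    exact hTg x hx
  let GI : Ideal B := Ideal.span (G : Set B)
  have hGI : GI ≤ I := Ideal.span_le.2 fun y hy => hG y hy
  let K : Ideal B := (GI.map s).comap t
  have hKG : K ≤ GI := by
    intro y hy
    have h := Ideal.mem_map_of_mem e (show t y ∈ GI.map s from hy)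
    rwa [← RingHom.comp_apply, het, RingHom.id_apply, Ideal.map_map, hes, Ideal.map_id] at h
  have hT₀K : ∀ y ∈ T₀, y ∈ K := by
    intro y hy
    refine Ideal.map_mono (Ideal.span_mono ?_) (hTgx ⟨y, hy⟩)
    intro z hz
    exact Finset.mem_biUnion.2 ⟨⟨y, hy⟩, Finset.mem_univ _, hz⟩
  refine ⟨K, hKG.trans hGI, ?_, ?_, ?_, fun x hx => hT₀K x (Finset.mem_union_left _ hx)⟩
  · obtain ⟨n, hn⟩ := Ideal.exists_pow_le_of_le_radical_of_fg
      (show GI ≤ Ideal.radical ⊥ from hGI.trans hI) ⟨G, rfl⟩
    exact ⟨n, le_bot_iff.1 ((Ideal.pow_right_mono hKG n).trans hn)⟩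
  · rw [Ideal.map_le_iff_le_comap]
    intro y hy
    refine mem_map_comap hD hs (GI.map s) ?_
    have h : m (t y) ∈ (GI.map s).map m := Ideal.mem_map_of_mem m hy
    rw [← RingHom.comp_apply, hmt, RingHom.comp_apply, Ideal.map_map, hms, ← Ideal.map_map] at h
    exact h
  · intro x hx
    refine Ideal.map_mono ?_ (hTcx ⟨x, hx⟩)
    rw [Ideal.span_le]
    intro z hz
    exact hT₀K z (Finset.mem_union_right _ (Finset.mem_biUnion.2 ⟨⟨x, hx⟩, Finset.mem_univ _, hz⟩))

end Groth.Agent.ThickSp15
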