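import Groth.Agent.Lib.AlgSpace.SepAffine
import Groth.Agent.Lib.AlgSpace.ImmDescent
import Groth.Agent.Lib.AlgSpace.EtaleApps
import Groth.Agent.Lib.AlgSpDecent.RedInduced
import Groth.Agent.Lib.AlgSpDescent.ThickTop
import Groth.Agent.Lib.ThickSp15.Ring
import Groth.Prelude.Def_AlgSpInf

/-!
# Affine presentations of separated spaces, and invariant closed subspaces
-/

universe u

set_option backward.isDefEq.respectTransparency.types false

open CategoryTheory CategoryTheory.Limits AlgebraicGeometry Opposite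

namespace Groth.Agent.ThickSp15

open AlgSp Groth.Agent.AlgSpace Groth.Agent.AlgSpDecent

variable {S : Scheme.{u}}

/-- An affine étale presentation with affine relation. -/
structure Grpd (X' : Sp S) where
  W : Over S
  p : (yon S).obj W ⟶ X'
  R : Over S
  t : R ⟶ W
  s : R ⟶ W
  affW : IsAffine W.left
  affR : IsAffine R.left
  et : RepWith @Etale p
  surj : RepWith @Surjective p
  sq : IsPullback ((yon S).map t) ((yon S).map s) p p

namespace Grpd

variable {X' : Sp S} (G : Grpd X')

/-- The ring homomorphism of the first projection. -/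
noncomputable abbrev tr : Γ(G.W.left, ⊤) →+* Γ(G.R.left, ⊤) := G.t.left.appTop.hom

/-- The ring homomorphism of the second projection. -/
noncomputable abbrev sr : Γ(G.W.left, ⊤) →+* Γ(G.R.left, ⊤) := G.s.left.appTop.hom

/-- Invariant ideals. -/
def IsInv (K : Ideal Γ(G.W.left, ⊤)) : Prop := K.map G.tr ≤ K.map G.sr

theorem etale_t : Etale G.t.left :=
  (repWith_yon_map_iff _ _).1 (repWith_of_isPullback G.sq.flip G.et)

theorem etale_s : Etale G.s.left :=
  (repWith_yon_map_iff _ _).1 (repWith_of_isPullback G.sq G.et)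

theorem flat_appTop {A B : Scheme.{u}} [IsAffine A] [IsAffine B] (f : A ⟶ B) [Etale f] :
    f.appTop.hom.Flat :=
  (HasRingHomProperty.iff_of_isAffine (P := @Flat) (f := f)).1 inferInstance

theorem sr_flat : G.sr.Flat := by
  have := G.affW; have := G.affR; have := G.etale_s
  exact flat_appTop G.s.left

theorem exists_swap : ∃ σ : Γ(G.R.left, ⊤) →+* Γ(G.R.left, ⊤),
    σ.comp G.tr = G.sr ∧ σ.comp G.sr = G.tr := by
  obtain ⟨c, hc⟩ := (yon S).map_surjective (G.sq.lift _ _ G.sq.w.symm)
  have h₁ : c ≫ G.t = G.s := (yon S).map_injective (by rw [Functor.map_comp, hc, G.sq.lift_fst])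
  have h₂ : c ≫ G.s = G.t := (yon S).map_injective (by rw [Functor.map_comp, hc, G.sq.lift_snd])
  refine ⟨c.left.appTop.hom, ?_, ?_⟩
  · have := congrArg (fun f : G.R ⟶ G.W => f.left.appTop.hom) h₁
    simpa [Grpd.tr, Grpd.sr] using this
  · have := congrArg (fun f : G.R ⟶ G.W => f.left.appTop.hom) h₂
    simpa [Grpd.tr, Grpd.sr] using this

theorem IsInv.map_eq {K : Ideal Γ(G.W.left, ⊤)} (h : G.IsInv K) : K.map G.tr = K.map G.sr := by
  refine le_antisymm h ?_
  obtain ⟨σ, h₁, h₂⟩ := G.exists_swap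
  have := Ideal.map_mono (f := σ) h
  rwa [Ideal.map_map, Ideal.map_map, h₁, h₂] at this

theorem IsInv.pow {K : Ideal Γ(G.W.left, ⊤)} (h : G.IsInv K) (n : ℕ) : G.IsInv (K ^ n) := by
  unfold Grpd.IsInv
  rw [Ideal.map_pow, Ideal.map_pow]
  exact Ideal.pow_right_mono h n

theorem exists_unit : ∃ e : Γ(G.R.left, ⊤) →+* Γ(G.W.left, ⊤),
    e.comp G.sr = RingHom.id _ ∧ e.comp G.tr = RingHom.id _ := by
  obtain ⟨c, hc⟩ := (yon S).map_surjective (G.sq.lift (𝟙 ((yon S).obj G.W)) (𝟙 _) rfl)
  have h₁ : c ≫ G.t = 𝟙 G.W := (yon S).map_injective (by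
    rw [Functor.map_comp, hc, G.sq.lift_fst, (yon S).map_id])
  have h₂ : c ≫ G.s = 𝟙 G.W := (yon S).map_injective (by
    rw [Functor.map_comp, hc, G.sq.lift_snd, (yon S).map_id])
  refine ⟨c.left.appTop.hom, ?_, ?_⟩
  · have := congrArg (fun f : G.W ⟶ G.W => f.left.appTop.hom) h₂
    simpa [Grpd.tr, Grpd.sr] using this
  · have := congrArg (fun f : G.W ⟶ G.W => f.left.appTop.hom) h₁
    simpa [Grpd.tr, Grpd.sr] using this

set_option maxHeartbeats 800000 in
/-- The ring of composable pairs. -/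
theorem exists_composable : ∃ (D : Type u) (_ : CommRing D) (inl inr m : Γ(G.R.left, ⊤) →+* D),
    IsComposable G.sr G.tr inl inr ∧ inr.Flat ∧ m.comp G.tr = inl.comp G.tr ∧
      m.comp G.sr = inr.comp G.sr := by
  have := G.affW; have := G.affR; have := G.etale_s
  let R₂ := Limits.pullback G.s G.t
  let u : R₂ ⟶ G.R := pullback.fst G.s G.t
  let v : R₂ ⟶ G.R := pullback.snd G.s G.t
  have sqS := (IsPullback.of_hasPullback G.s G.t).map (Over.forget S)
  have : IsAffine ((Over.forget S).obj G.R) := G.affR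
  have : IsAffine ((Over.forget S).obj G.W) := G.affW
  have : IsAffine R₂.left := .of_isIso sqS.isoPullback.hom
  have : Etale v.left := MorphismProperty.of_isPullback (P := @Etale) sqS ‹_›
  have sqP := isPushout_appTop_of_isPullback sqS
  obtain ⟨c, hc⟩ := (yon S).map_surjective (G.sq.lift ((yon S).map (u ≫ G.t)) ((yon S).map (v ≫ G.s)) (by
    have w : u ≫ G.s = v ≫ G.t := pullback.condition
    simp only [Functor.map_comp, Category.assoc, G.sq.w]
    rw [← Functor.map_comp_assoc, w, Functor.map_comp_assoc, G.sq.w]))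
  have h₁ : c ≫ G.t = u ≫ G.t := (yon S).map_injective (by rw [Functor.map_comp, hc, G.sq.lift_fst])
  have h₂ : c ≫ G.s = v ≫ G.s := (yon S).map_injective (by rw [Functor.map_comp, hc, G.sq.lift_snd])
  refine ⟨Γ(R₂.left, ⊤), inferInstance, u.left.appTop.hom, v.left.appTop.hom, c.left.appTop.hom,
    ⟨?_, ?_⟩, flat_appTop v.left, ?_, ?_⟩
  · exact congrArg (fun k => k.hom) sqP.w
  · intro E _ f g hfg
    have hw : G.s.left.appTop ≫ CommRingCat.ofHom f = G.t.left.appTop ≫ CommRingCat.ofHom g :=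
      CommRingCat.hom_ext hfg
    exact ⟨(sqP.desc _ _ hw).hom, congrArg (fun k => k.hom) (sqP.inl_desc _ _ hw),
      congrArg (fun k => k.hom) (sqP.inr_desc _ _ hw)⟩
  · have := congrArg (fun f : R₂ ⟶ G.W => f.left.appTop.hom) h₁
    simpa [Grpd.tr, Grpd.sr] using this
  · have := congrArg (fun f : R₂ ⟶ G.W => f.left.appTop.hom) h₂
    simpa [Grpd.tr, Grpd.sr] using this

end Grpd

/-- Quasi-compact separated spaces over a separated base have affine presentations. -/
theorem exists_grpd [S.IsSeparated] {X' : Sp S} (hX' : IsAlgSpace X') (hqc : CompactSpace (Points X'))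
    (hsep : IsSeparatedSp X') : Nonempty (Grpd X') := by
  obtain ⟨W, p, hW, hpe, hps⟩ := exists_affine_chart ((isQuasiCompactSp_iff hX').2 hqc)
  have sq := hpe.1.isPullback p
  obtain ⟨t, ht⟩ := (yon S).map_surjective (hpe.1.fst p)
  rw [← ht] at sq
  exact ⟨⟨W, p, _, t, _, hW, (isAffine_surjective_of_separated hsep sq).1, hpe, hps, sq⟩⟩

/-- Factoring through a closed immersion of affine schemes. -/
theorem exists_fac_of_ker_le {Z W T : Scheme.{u}} [IsAffine Z] [IsAffine W] (ι : Z ⟶ W)
    [IsClosedImmersion ι] (f : T ⟶ W)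
    (h : RingHom.ker ι.appTop.hom ≤ RingHom.ker f.appTop.hom) : ∃ g : T ⟶ Z, g ≫ ι = f := by
  have hs : Function.Surjective ι.appTop.hom :=
    (IsClosedImmersion.isAffine_surjective_of_isAffine ι).2
  let φ := RingHom.liftOfSurjective ι.appTop.hom hs ⟨f.appTop.hom, h⟩
  have hφ : φ.comp ι.appTop.hom = f.appTop.hom :=
    RingHom.liftOfSurjective_comp ι.appTop.hom hs _
  refine ⟨T.toSpecΓ ≫ Spec.map (CommRingCat.ofHom φ) ≫ Z.isoSpec.inv, ?_⟩
  have e : ι.appTop ≫ CommRingCat.ofHom φ = f.appTop := CommRingCat.hom_ext hφ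
  rw [Category.assoc, Category.assoc, ← Scheme.isoSpec_inv_naturality, ← Spec.map_comp_assoc, e,
    ← Category.assoc, ← Scheme.toSpecΓ_naturality, Category.assoc, Scheme.toSpecΓ_isoSpec_inv,
    Category.comp_id]

variable {X' : Sp S}

/-- An invariant surjective closed subscheme of the presentation gives a closed subspace. -/
theorem exists_sub (hX' : IsAlgSpace X') (G : Grpd X') {Z : Over S} [IsAffine Z.left] (ι : Z ⟶ G.W)
    [IsClosedImmersion ι.left] [Surjective ι.left]
    (hinv : G.IsInv (RingHom.ker ι.left.appTop.hom)) :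
    ∃ (XK : Sp S) (_ : IsAlgSpace XK) (j : XK ⟶ X') (π : (yon S).obj Z ⟶ XK),
      IsThickMor j ∧ IsPullback π ((yon S).map ι) j G.p ∧ RepWith @Etale π ∧ RepWith @Surjective π := by
  have := G.affW; have := G.affR
  have : Mono ι := (Over.forget S).mono_of_mono_map (inferInstanceAs (Mono ι.left))
  let RZ := Limits.pullback G.s ι
  let a : RZ ⟶ G.R := pullback.fst G.s ι
  let b : RZ ⟶ Z := pullback.snd G.s ι
  have sqs : IsPullback a b G.s ι := IsPullback.of_hasPullback G.s ι
  have w : a ≫ G.s = b ≫ ι := sqs.w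
  obtain ⟨g', hg'⟩ := exists_fac_of_ker_le ι.left (a ≫ G.t).left (by
    have hab : a.left.appTop.hom.comp G.sr = b.left.appTop.hom.comp ι.left.appTop.hom := by
      have := congrArg (fun f : RZ ⟶ G.W => f.left.appTop.hom) w
      simpa [Grpd.sr] using this
    have h0 : (RingHom.ker ι.left.appTop.hom).map G.sr ≤ RingHom.ker a.left.appTop.hom := by
      rw [Ideal.map_le_iff_le_comap]
      intro k hk
      change a.left.appTop.hom (G.sr k) = 0
      rw [← RingHom.comp_apply, hab, RingHom.comp_apply, RingHom.mem_ker.1 hk, map_zero]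
    intro k hk
    have := h0 (hinv (Ideal.mem_map_of_mem G.tr hk))
    simpa [Grpd.tr] using this)
  let b' : RZ ⟶ Z := Over.homMk g' (by rw [← Over.w ι, reassoc_of% hg', Over.w (a ≫ G.t)])
  have hb' : b' ≫ ι = a ≫ G.t := Over.OverMorphism.ext hg'
  let j := Sheaf.imageι ((yon S).map ι ≫ G.p)
  let π := Sheaf.toImage ((yon S).map ι ≫ G.p)
  have sqP : IsPullback π ((yon S).map ι) j G.p := RedInduced.isPullback_image G.sq ι sqs hb'
  have hj : RepWith @IsClosedImmersion j := repWith_closedImmersion_of_etale_cover j G.p G.et G.surj sqP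
    ((repWith_yon_map_iff _ _).2 ‹_›)
  have hjs : RepWith @Surjective j := repWith_surjective_of_map hj.1 fun x => by
    obtain ⟨w, rfl⟩ := surjective_ofPt G.surj x
    obtain ⟨z, rfl⟩ := ι.left.surjective w
    exact ⟨Points.ofPt π z, by rw [Points.map_ofPt, sqP.w, ofPt_map_comp]⟩
  exact ⟨_, isAlgSpace_of_representable hj.1 hX', j, π, repWith_inf hj hjs, sqP,
    repWith_of_isPullback sqP.flip G.et, repWith_of_isPullback sqP.flip G.surj⟩

/-- Invariant functions on the presentation descend to the closed subspace. -/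
theorem exists_desc (G : Grpd X') {Z : Over S} [IsAffine Z.left] (ι : Z ⟶ G.W) {XK : Sp S}
    {j : XK ⟶ X'} {π : (yon S).obj Z ⟶ XK} (sqP : IsPullback π ((yon S).map ι) j G.p)
    (hπe : RepWith @Etale π) (hπs : RepWith @Surjective π) {P : Over S} [IsAffine P.left]
    (φ : Z ⟶ P)
    (h : ∀ a, ∃ b, ι.left.appTop.hom b = φ.left.appTop.hom a ∧
      G.sr b - G.tr b ∈ (RingHom.ker ι.left.appTop.hom).map G.sr) :
    ∃ Φ : XK ⟶ (yon S).obj P, π ≫ Φ = (yon S).map φ := by
  have : Epi π := (CategoryTheory.Sheaf.isLocallySurjective_iff_epi _).1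
    (isLocallySurjective_of_etale hπe hπs)
  have hreg : IsRegularEpi π := IsRegularEpiCategory.regularEpiOfEpi π
  obtain ⟨Φ, hΦ⟩ := (IsRegularEpi.getStruct π).desc' ((yon S).map φ) (hom_ext_yon fun T q => by
    obtain ⟨x, hx⟩ := (yon S).map_surjective (q ≫ (IsRegularEpi.getStruct π).left)
    obtain ⟨y, hy⟩ := (yon S).map_surjective (q ≫ (IsRegularEpi.getStruct π).right)
    rw [← Category.assoc, ← Category.assoc, ← hx, ← hy, ← Functor.map_comp, ← Functor.map_comp]
    refine congrArg _ (Over.OverMorphism.ext (ext_of_isAffine ?_))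
    obtain ⟨r, hr⟩ := (yon S).map_surjective (G.sq.lift ((yon S).map (x ≫ ι)) ((yon S).map (y ≫ ι)) (by
      simp only [Functor.map_comp, Category.assoc, ← sqP.w]
      rw [← Category.assoc ((yon S).map x), ← Category.assoc ((yon S).map y), hx, hy,
        Category.assoc, Category.assoc, reassoc_of% (IsRegularEpi.getStruct π).w]
      simp only [Category.assoc]))
    have hrt : r ≫ G.t = x ≫ ι := (yon S).map_injective (by rw [Functor.map_comp, hr, G.sq.lift_fst])
    have hrs : r ≫ G.s = y ≫ ι := (yon S).map_injective (by rw [Functor.map_comp, hr, G.sq.lift_snd])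
    have et : ∀ b, r.left.appTop.hom (G.tr b) = x.left.appTop.hom (ι.left.appTop.hom b) := fun b => by
      have := congrArg (fun f : T ⟶ G.W => f.left.appTop.hom b) hrt
      simpa [Grpd.tr] using this
    have es : ∀ b, r.left.appTop.hom (G.sr b) = y.left.appTop.hom (ι.left.appTop.hom b) := fun b => by
      have := congrArg (fun f : T ⟶ G.W => f.left.appTop.hom b) hrs
      simpa [Grpd.sr] using this
    ext a
    obtain ⟨b, hb, hbK⟩ := h a
    have h0 : (RingHom.ker ι.left.appTop.hom).map G.sr ≤ RingHom.ker r.left.appTop.hom := by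
      rw [Ideal.map_le_iff_le_comap]
      intro k hk
      change r.left.appTop.hom (G.sr k) = 0
      rw [es, RingHom.mem_ker.1 hk, map_zero]
    have := h0 hbK
    rw [RingHom.mem_ker, map_sub, et, es, hb, sub_eq_zero] at this
    simpa using this.symm)
  exact ⟨Φ, hΦ⟩

end Groth.Agent.ThickSp15
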