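import Groth.Agent.Lib.ThickSp15.Scheme
import Groth.Agent.S0440
import Groth.Prelude.Def_AlgSp4

/-!
# Morphisms of thickenings: representable, affine and integral ones
-/

universe u

set_option backward.isDefEq.respectTransparency.types false

open CategoryTheory CategoryTheory.Limits AlgebraicGeometry Opposite

namespace Groth.Agent.ThickSp15

open AlgSp Groth.Agent.AlgSpace Groth.Agent.AlgSpDecent

variable {S : Scheme.{u}} {X X' Y Y' : Sp S} {i : X ⟶ X'} {j : Y ⟶ Y'} {f : X ⟶ Y} {f' : X' ⟶ Y'}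

/-- A representing scheme for the base change of `f` along the restriction of `g` is thickened by
one for the base change of `f'` along `g`. -/
theorem exists_pullback_of_restrict (hX' : IsAlgSpace X') (hY' : IsAlgSpace Y') (hi : IsThickMor i)
    (w : i ≫ f' = f ≫ j) {T T₀ W : Over S} (g : (yon S).obj T ⟶ Y') {g₀ : (yon S).obj T₀ ⟶ Y}
    {k : T₀ ⟶ T} (sq₀ : IsPullback g₀ ((yon S).map k) j g) {a : (yon S).obj W ⟶ X} {b : W ⟶ T₀}
    (sq : IsPullback a ((yon S).map b) f g₀) :
    ∃ (W' : Over S) (a' : (yon S).obj W' ⟶ X') (b' : W' ⟶ T) (l : W ⟶ W'),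
      IsPullback a' ((yon S).map b') f' g ∧ thick l.left ∧ l ≫ b' = b ≫ k := by
  have sqP := IsPullback.of_hasPullback f' g
  have hP := isAlgSpace_pullback hY' hX' (IsAlgSpace.yon_obj T) sqP
  have big := sq.paste_vert sq₀
  rw [← w, ← Functor.map_comp] at big
  let l : (yon S).obj W ⟶ pullback f' g := sqP.lift (a ≫ i) ((yon S).map (b ≫ k))
    (by rw [Category.assoc]; exact big.w)
  have sql : IsPullback a l i (pullback.fst f' g) := by
    refine IsPullback.of_bot ?_ (sqP.lift_fst _ _ _).symm sqP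
    rw [show l ≫ pullback.snd f' g = (yon S).map (b ≫ k) from sqP.lift_snd _ _ _]
    exact big
  have hl : IsThickMor l := repWith_of_isPullback sql hi
  obtain ⟨W', ⟨e⟩⟩ := exists_scheme_of_thick hP hl
  obtain ⟨b', hb'⟩ := (yon S).map_surjective (e.hom ≫ pullback.snd f' g)
  obtain ⟨l', hl'⟩ := (yon S).map_surjective (l ≫ e.inv)
  refine ⟨W', e.hom ≫ pullback.fst f' g, b', l', ?_, ?_, (yon S).map_injective ?_⟩
  · rw [hb']
    exact IsPullback.of_iso sqP e.symm (Iso.refl _) (Iso.refl _) (Iso.refl _)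
      (by simp) (by simp) (by simp) (by simp)
  · refine (AlgSp.repWith_yon_map_iff thick l').1 ?_
    rw [hl']
    exact (repWith_respectsIso_right e.inv).2 hl
  · rw [Functor.map_comp, hl', hb', Category.assoc, Iso.inv_hom_id_assoc]
    exact sqP.lift_snd _ _ _

/-- A representing scheme for the base change of `f'` along `g ≫ j` contains one for the base
change of `f` along `g`. -/
theorem exists_pullback_of_extend (hi : IsThickMor i) (hj : IsThickMor j) (w : i ≫ f' = f ≫ j)
    {T W' : Over S} (g : (yon S).obj T ⟶ Y) {a' : (yon S).obj W' ⟶ X'} {b' : W' ⟶ T}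
    (sq' : IsPullback a' ((yon S).map b') f' (g ≫ j)) :
    ∃ (W : Over S) (a : (yon S).obj W ⟶ X) (l : W ⟶ W'),
      IsPullback a ((yon S).map (l ≫ b')) f g ∧ thick l.left := by
  have : Mono j := AlgSpDescent.mono_of_thick hj
  have sql := hi.1.isPullback a'
  have big := sql.paste_vert sq'
  rw [w, ← Functor.map_comp] at big
  refine ⟨_, hi.1.fst a', hi.1.snd a', ?_, hi.2 _ _ _ sql⟩
  refine IsPullback.of_bot (v₂₁ := 𝟙 _) ?_ ?_ (IsPullback.of_vert_isIso_mono (fst := g)
    (snd := 𝟙 _) (f := j) (g := g ≫ j) ⟨(Category.id_comp _).symm⟩)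
  · rw [Category.comp_id]; exact big
  · rw [← cancel_mono j, Category.assoc, Category.assoc]; exact big.w

theorem representable_iff_of_thick (hX' : IsAlgSpace X') (hY' : IsAlgSpace Y') (hi : IsThickMor i)
    (hj : IsThickMor j) (w : i ≫ f' = f ≫ j) : Representable f ↔ Representable f' := by
  refine ⟨fun h T g => ?_, fun h T g => ?_⟩
  · have sq₀ := hj.1.isPullback g
    obtain ⟨W, b, a, sq⟩ := h (hj.1.fst g)
    obtain ⟨W', a', b', l, sq', -, -⟩ := exists_pullback_of_restrict hX' hY' hi w g sq₀ sq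
    exact ⟨W', b', a', sq'⟩
  · obtain ⟨W', b', a', sq'⟩ := h (g ≫ j)
    obtain ⟨W, a, l, sq, -⟩ := exists_pullback_of_extend hi hj w g sq'
    exact ⟨W, l ≫ b', a, sq⟩

theorem affine_integral_iff_of_thick (hX' : IsAlgSpace X') (hY' : IsAlgSpace Y') (hi : IsThickMor i)
    (hj : IsThickMor j) (w : i ≫ f' = f ≫ j) :
    (IsAffineMor f ↔ IsAffineMor f') ∧ (IsIntegralMor f ↔ IsIntegralMor f') := by
  have down : ∀ {T : Over S}, IsAffine T.left → ∀ (g : (yon S).obj T ⟶ Y'),
      IsAffine (hj.1.pullback g).left ∧ IsClosedImmersion (hj.1.snd g).left := fun {T} hT g => by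
    have h : thick (hj.1.snd g).left := hj.2 _ _ _ (hj.1.isPullback g)
    have : IsClosedImmersion (hj.1.snd g).left := h.1
    exact ⟨isAffine_of_isAffineHom (hj.1.snd g).left, h.1⟩
  refine ⟨⟨fun h Z hZ g => ?_, fun h Z hZ g => ?_⟩, ⟨fun h Z hZ g => ?_, fun h Z hZ g => ?_⟩⟩
  · obtain ⟨hA, -⟩ := down hZ g
    obtain ⟨W, b, a, sq, hW⟩ := h hA (hj.1.fst g)
    obtain ⟨W', a', b', l, sq', hl, -⟩ :=
      exists_pullback_of_restrict hX' hY' hi w g (hj.1.isPullback g) sq
    have : IsClosedImmersion l.left := hl.1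
    exact ⟨W', b', a', sq', Groth.Agent.S0440.result l.left hl.2.surj⟩
  · obtain ⟨W', b', a', sq', hW'⟩ := h hZ (g ≫ j)
    obtain ⟨W, a, l, sq, hl⟩ := exists_pullback_of_extend hi hj w g sq'
    have : IsClosedImmersion l.left := hl.1
    exact ⟨W, l ≫ b', a, sq, isAffine_of_isAffineHom l.left⟩
  · obtain ⟨hA, hk⟩ := down hZ g
    obtain ⟨W, b, a, sq, hW, hb⟩ := h hA (hj.1.fst g)
    obtain ⟨W', a', b', l, sq', hl, hlb⟩ :=
      exists_pullback_of_restrict hX' hY' hi w g (hj.1.isPullback g) sq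
    have : IsClosedImmersion l.left := hl.1
    have : Surjective l.left := hl.2
    have hW' : IsAffine W'.left := Groth.Agent.S0440.result l.left hl.2.surj
    have : UniversallyClosed (l.left ≫ b'.left) := by
      rw [← Over.comp_left, hlb, Over.comp_left]
      infer_instance
    exact ⟨W', b', a', sq', hW', IsIntegralHom.iff_universallyClosed_and_isAffineHom.2
      ⟨UniversallyClosed.of_comp_surjective l.left b'.left, isAffineHom_of_isAffine _⟩⟩
  · obtain ⟨W', b', a', sq', hW', hb'⟩ := h hZ (g ≫ j)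
    obtain ⟨W, a, l, sq, hl⟩ := exists_pullback_of_extend hi hj w g sq'
    have : IsClosedImmersion l.left := hl.1
    refine ⟨W, l ≫ b', a, sq, isAffine_of_isAffineHom l.left, ?_⟩
    rw [Over.comp_left]
    infer_instance

end Groth.Agent.ThickSp15
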