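import Groth.Agent.Lib.ThickSp15.Scheme
import Groth.Agent.Lib.AlgSpace.Sub

/-!
# Open subspaces of thickenings
-/

universe u

set_option backward.isDefEq.respectTransparency.types false

open CategoryTheory CategoryTheory.Limits AlgebraicGeometry Opposite

namespace Groth.Agent.ThickSp15

open AlgSp Groth.Agent.AlgSpace Groth.Agent.AlgSpDecent

variable {S : Scheme.{u}} {X X' U : Sp S} {i : X ⟶ X'} {u : U ⟶ X}

theorem mono_openImm {A B : Sp S} {f : A ⟶ B} (hf : RepWith @IsOpenImmersion f) : Mono f :=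
  mono_of_repWith f (repWith_mono (fun _ _ g (_ : IsOpenImmersion g) =>
    (inferInstance : Mono g)) hf)

theorem range_of_isPullback_thick (hi : IsThickMor i) {U' : Sp S} {k : U ⟶ U'} {u' : U' ⟶ X'}
    (sq : IsPullback u k i u') :
    Set.range (Points.map u') = Points.map i '' Set.range (Points.map u) := by
  ext x
  constructor
  · rintro ⟨y, rfl⟩
    obtain ⟨z, rfl⟩ := AlgSpDescent.surjective_of_thick (repWith_of_isPullback sq hi : IsThickMor k) y
    exact ⟨_, ⟨z, rfl⟩, by rw [← Points.map_comp, ← Points.map_comp, sq.w]⟩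
  · rintro ⟨_, ⟨z, rfl⟩, rfl⟩
    exact ⟨Points.map k z, by rw [← Points.map_comp, ← Points.map_comp, sq.w]⟩

theorem isOpen_image_of_thick (hX' : IsAlgSpace X') (hi : IsThickMor i)
    {s : Set (Points X)} (hs : IsOpen s) : IsOpen (Points.map i '' s) :=
  (isHomeomorph_iff_isEmbedding_surjective.2 ⟨(isEmbedding_map_of_immersion hX' (repWith_mono
    (fun _ _ g (_ : IsClosedImmersion g) => (inferInstance : IsImmersion g))
    (AlgSpDescent.closedImmersion_of_thick hi))).1, AlgSpDescent.surjective_of_thick hi⟩).isOpenMap _ hs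

theorem exists_open_thick (hX' : IsAlgSpace X') (hi : IsThickMor i) (hu : RepWith @IsOpenImmersion u) :
    ∃ (U' : Sp S) (_ : IsAlgSpace U') (u' : U' ⟶ X') (k : U ⟶ U'),
      RepWith @IsOpenImmersion u' ∧ IsPullback u k i u' := by
  let W := Points.map i '' Set.range (Points.map u)
  have hW : IsOpen W := isOpen_image_of_thick hX' hi (isOpen_range_map_of_openImmersion hu)
  have hinj : Function.Injective (Points.map i) := (isEmbedding_map_of_immersion hX' (repWith_mono
    (fun _ _ g (_ : IsClosedImmersion g) => (inferInstance : IsImmersion g))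
    (AlgSpDescent.closedImmersion_of_thick hi))).1.injective
  obtain ⟨k, hk⟩ := exists_factor_openSub (W := W) (u ≫ i) (by
    rintro _ ⟨z, rfl⟩
    rw [Points.map_comp]
    exact ⟨_, ⟨z, rfl⟩, rfl⟩)
  have : Mono u := mono_openImm hu
  refine ⟨openSub W, isAlgSpace_of_representable (repWith_openSubι hW).1 hX', openSubι W, k,
    repWith_openSubι hW, IsPullback.flip (isPullback_of_mono_lifts hk fun T y z hz =>
      exists_factor_of_range hu y ?_)⟩
  rintro _ ⟨q, rfl⟩
  have hq : Points.map i (Points.map y q) ∈ W := by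
    rw [← Points.map_comp, ← hz, Points.map_comp]
    exact (range_openSubι W).le ⟨_, rfl⟩
  obtain ⟨r, hr, hr'⟩ := hq
  exact hinj hr' ▸ hr

theorem exists_iso_open_thick (hi : IsThickMor i) {U₁ U₂ : Sp S} {u₁ : U₁ ⟶ X'} {u₂ : U₂ ⟶ X'}
    {k₁ : U ⟶ U₁} {k₂ : U ⟶ U₂} (h₁ : RepWith @IsOpenImmersion u₁) (sq₁ : IsPullback u k₁ i u₁)
    (h₂ : RepWith @IsOpenImmersion u₂) (sq₂ : IsPullback u k₂ i u₂) :
    ∃ e : U₁ ≅ U₂, e.hom ≫ u₂ = u₁ := by
  have e := (range_of_isPullback_thick hi sq₁).trans (range_of_isPullback_thick hi sq₂).symm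
  obtain ⟨g, hg⟩ := exists_factor_of_range h₂ u₁ e.le
  obtain ⟨g', hg'⟩ := exists_factor_of_range h₁ u₂ e.ge
  have := mono_openImm h₁
  have := mono_openImm h₂
  exact ⟨⟨g, g', by rw [← cancel_mono u₁, Category.assoc, hg', hg, Category.id_comp],
    by rw [← cancel_mono u₂, Category.assoc, hg, hg', Category.id_comp]⟩, hg⟩

end Groth.Agent.ThickSp15
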